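import Cfsg.Agent.Lib.Fischer2.LeechShortStab
import Cfsg.Prelude.Def_Spor_Conway

/-!
The second Conway group inside the first: `Co₂` is the image in `Co₁` of the stabiliser of `±u`,
and it has no normal 2-subgroup other than the trivial one.
-/

set_option autoImplicit false

namespace CfsgLib.Fischer2

open Cfsg CfsgLib.Leech

theorem leechU_eq_uStar : Spor.leechU = uStar := by
  refine Subtype.ext (funext fun p => ?_)
  show Spor.vecU p = coordVec uStar p
  rw [coordVec_uStar, Spor.vecU]
  by_cases h : p = none <;> by_cases h' : p = some 0 <;> simp [h, h']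

theorem sqNorm_leechU : sqNorm (coordVec Spor.leechU) = 32 := by
  rw [leechU_eq_uStar]; exact sqNorm_uStar

theorem leechU_ne_neg : Spor.leechU ≠ -Spor.leechU := fun h => by
  have h0 : coordVec Spor.leechU none = -coordVec Spor.leechU none :=
    congrFun (congrArg Subtype.val h) none
  rw [leechU_eq_uStar, coordVec_uStar, if_pos rfl] at h0
  norm_num at h0

/-- An element of `Co₂` in `Co₀`. -/
def coTwoToCoZero : Spor.Co2 →* Co0 := Subgroup.inclusion inf_le_left

theorem coTwoToCoZero_smul (a : Spor.Co2) (v : leechLattice) : coTwoToCoZero a • v = a • v := rfl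

theorem coTwoToCoZero_fix (a : Spor.Co2) : coTwoToCoZero a • Spor.leechU = Spor.leechU :=
  MulAction.mem_stabilizer_iff.1 a.2.2

theorem exists_coTwo {g : Co0} (h : g • Spor.leechU = Spor.leechU) : ∃ a : Spor.Co2, coTwoToCoZero a = g :=
  ⟨⟨(g : Equiv.Perm leechLattice), g.2, MulAction.mem_stabilizer_iff.2 h⟩, Subtype.ext rfl⟩

/-- `Co₂` inside `Co₁`. -/
def coTwoToCoOne : Spor.Co2 →* Spor.Co1 := (QuotientGroup.mk' (Subgroup.center Co0)).comp coTwoToCoZero

theorem coTwoToCoOne_injective : Function.Injective coTwoToCoOne := by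
  refine (injective_iff_map_eq_one _).2 fun a ha => ?_
  rcases center_co0 ((QuotientGroup.eq_one_iff _).1 ha) with h | h
  · exact Subgroup.inclusion_injective _ (h.trans (map_one coTwoToCoZero).symm)
  · exfalso
    have := coTwoToCoZero_fix a
    rw [h, negAut_apply] at this
    exact leechU_ne_neg this.symm

theorem mem_range_coTwoToCoOne {g : Co0} (h : g • Spor.leechU = Spor.leechU ∨ g • Spor.leechU = -Spor.leechU) :
    (QuotientGroup.mk g : Spor.Co1) ∈ coTwoToCoOne.range := by
  rcases h with h | h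
  · obtain ⟨a, ha⟩ := exists_coTwo h
    exact ⟨a, by rw [← ha]; rfl⟩
  · obtain ⟨a, ha⟩ := exists_coTwo (g := negAut * g) (by rw [mul_smul, h, negAut_apply, neg_neg])
    refine ⟨a, ?_⟩
    show (QuotientGroup.mk (coTwoToCoZero a) : Spor.Co1) = _
    rw [ha, QuotientGroup.mk_mul, (QuotientGroup.eq_one_iff negAut).2 negAut_mem_center, one_mul]

/-- An automorphism fixing a short class fixes the vector up to sign. -/
theorem smul_eq_or_neg_of_congTwo {g : Co0} {v : leechLattice} (hv : sqNorm (coordVec v) = 32)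
    (h : CongTwo (g • v) v) : g • v = v ∨ g • v = -v := by
  rcases congTwo_cases h (by rw [sqNorm_smul', hv]; norm_num) (by rw [hv]; norm_num) with r | r | ⟨-, r, -⟩
  · exact Or.inl r
  · exact Or.inr r
  · rw [hv] at r; norm_num at r

/-- Some automorphism carries `u` to the vector stabilised in `stab_short_no_normal`. -/
theorem exists_smul_leechU : ∃ g : Co0, g • Spor.leechU = Spor.leechU' :=
  (sameOrbit_norm32 sqNorm_leechU (show (none : GolayPt) ≠ some 0 by simp)).trans
    (sameOrbit_norm32 sqNorm_uu (show (none : GolayPt) ≠ some 0 by simp)).symm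

theorem inStab_conj_iff {g₀ g : Co0} (hg₀ : g₀ • Spor.leechU = Spor.leechU') :
    InStab (g₀ * g * g₀⁻¹) ↔ g • Spor.leechU = Spor.leechU ∨ g • Spor.leechU = -Spor.leechU := by
  have e1 : (g₀ * g * g₀⁻¹) • Spor.leechU' = g₀ • g • Spor.leechU := by
    rw [← hg₀, mul_smul, mul_smul, inv_smul_smul]
  show _ = _ ∨ _ = _ ↔ _
  rw [e1]
  refine or_congr ?_ ?_
  · rw [← hg₀, smul_left_cancel_iff]
  · rw [← hg₀, ← smul_neg_co0, smul_left_cancel_iff]

/-- `Co₂` has no non-trivial normal 2-subgroup. -/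
theorem coTwo_pGroup_normal_eq_bot {M : Subgroup Spor.Co2} [M.Normal] (hM : IsPGroup 2 M) : M = ⊥ := by
  obtain ⟨g₀, hg₀⟩ := exists_smul_leechU
  set π := QuotientGroup.mk' (Subgroup.center Co0) with hπ
  set N : Subgroup Co0 := ((M.map coTwoToCoOne).comap π).map (MulAut.conj g₀).toMonoidHom with hN
  have hcent : IsPGroup 2 (Subgroup.center Co0) := fun g => ⟨1, by
    apply Subtype.ext
    show (g : Co0) ^ (2 ^ 1) = 1
    rcases center_co0 g.2 with e | e <;> rw [e]
    · exact one_pow _
    · rw [pow_one, pow_two]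
      exact co0_ext fun v p => by rw [mul_smul, coordVec_negAut, coordVec_negAut, neg_neg, one_smul]⟩
  have hN2 : IsPGroup 2 N :=
    (IsPGroup.comap_of_ker_isPGroup (hM.map _) π (by rw [QuotientGroup.ker_mk']; exact hcent)).map _
  have hstab : ∀ n ∈ N, InStab n := by
    rintro _ ⟨g, ⟨a, -, hag⟩, rfl⟩
    refine (inStab_conj_iff hg₀).2 ?_
    have hc : (coTwoToCoZero a)⁻¹ * g ∈ Subgroup.center Co0 := QuotientGroup.eq.1 hag
    rcases center_co0 hc with h | h
    · left
      rw [← inv_mul_eq_one.1 h]; exact coTwoToCoZero_fix a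
    · right
      rw [inv_mul_eq_iff_eq_mul.1 h, mul_smul, negAut_apply, smul_neg_co0, coTwoToCoZero_fix]
  have hnorm : ∀ k : Co0, InStab k → ∀ n ∈ N, k * n * k⁻¹ ∈ N := by
    rintro k hk _ ⟨g, ⟨a, ha, hag⟩, rfl⟩
    have hk' : (g₀⁻¹ * k * g₀) • Spor.leechU = Spor.leechU ∨ (g₀⁻¹ * k * g₀) • Spor.leechU = -Spor.leechU :=
      (inStab_conj_iff hg₀).1 (by simpa [mul_assoc] using hk)
    obtain ⟨b, hb⟩ := mem_range_coTwoToCoOne hk'
    refine ⟨(g₀⁻¹ * k * g₀) * g * (g₀⁻¹ * k * g₀)⁻¹,
      ⟨b * a * b⁻¹, (inferInstance : M.Normal).conj_mem a ha b, ?_⟩, ?_⟩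
    · rw [map_mul, map_mul, map_inv, hb, hag, map_mul, map_mul, map_inv]; rfl
    · simp only [MulEquiv.toMonoidHom_eq_coe, MonoidHom.coe_coe, MulAut.conj_apply]
      group
  refine (Subgroup.eq_bot_iff_forall _).2 fun a ha => ?_
  have hmem : g₀ * coTwoToCoZero a * g₀⁻¹ ∈ N := ⟨_, ⟨a, ha, rfl⟩, rfl⟩
  apply coTwoToCoOne_injective
  rw [map_one]
  refine (QuotientGroup.eq_one_iff _).2 ?_
  have hc : g₀ * coTwoToCoZero a * g₀⁻¹ ∈ Subgroup.center Co0 := by
    rcases stab_short_no_normal hN2 hstab hnorm hmem with r | r <;> rw [r]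
    · exact Subgroup.one_mem _
    · exact negAut_mem_center
  have := (inferInstance : (Subgroup.center Co0).Normal).conj_mem _ hc g₀⁻¹
  simpa [mul_assoc] using this

/-- An automorphism fixing all short vectors orthogonal to `u`, and `u`, up to sign is central. -/
theorem mem_center_of_fix_short {g : Co0}
    (hu : g • Spor.leechU = Spor.leechU ∨ g • Spor.leechU = -Spor.leechU)
    (h : ∀ v, sqNorm (coordVec v) = 32 → dotInt (coordVec v) (coordVec Spor.leechU) = 0 →
      g • v = v ∨ g • v = -v) : g ∈ Subgroup.center Co0 := by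
  obtain ⟨g₀, hg₀⟩ := exists_smul_leechU
  set n := g₀ * g * g₀⁻¹ with hn
  have hns : InStab n := (inStab_conj_iff hg₀).2 hu
  have hsh : ∀ v, IsShort v → n • v = v ∨ n • v = -v := by
    intro v hv
    have hd : dotInt (coordVec (g₀⁻¹ • v)) (coordVec Spor.leechU) = 0 := by
      have h1 := CfsgLib.Leech.dotInt_smul g₀ (g₀⁻¹ • v) Spor.leechU
      rw [smul_inv_smul, hg₀] at h1
      show dotInt ((g₀⁻¹ • v : leechLattice) : GolayPt → ℤ) _ = 0
      refine h1.symm.trans ((dot_uu v).trans ?_)
      rw [hv.2, sub_self, mul_zero]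
    rw [hn, mul_smul, mul_smul]
    rcases h _ (by rw [sqNorm_smul']; exact hv.1) hd with r | r <;> rw [r]
    · left; rw [smul_inv_smul]
    · right; rw [smul_neg_co0, smul_inv_smul]
  have hc : n ∈ Subgroup.center Co0 := by
    rcases hsh uStar ⟨sqNorm_uStar, by rw [coordVec_uStar, coordVec_uStar]; simp⟩ with r | r
    · rw [eq_one_of_fix_short hns r hsh]; exact Subgroup.one_mem _
    · have h1 : negAut * n = 1 := eq_one_of_fix_short (inStab_negAut.mul hns)
        (by rw [mul_smul, r, negAut_apply, neg_neg]) (fun v hv => by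
          rw [mul_smul]
          rcases hsh v hv with r' | r' <;> rw [r', negAut_apply]
          · exact Or.inr rfl
          · exact Or.inl (neg_neg v))
      rw [eq_inv_of_mul_eq_one_right h1]
      exact Subgroup.inv_mem _ negAut_mem_center
  have := (inferInstance : (Subgroup.center Co0).Normal).conj_mem _ hc g₀⁻¹
  simpa [hn, mul_assoc] using this

end CfsgLib.Fischer2
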