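import Cfsg.Agent.Lib.Fischer2.LeechFrame

/-!
The sign changes are the only normal subgroup of the monomial group which is abelian modulo the
centre and not central.
-/

set_option autoImplicit false

namespace CfsgLib.Fischer2

open Cfsg Finset CfsgLib.Leech

theorem signAut_mul (a b : golayCode) : signAut a * signAut b = signAut (a + b) := by
  have := map_mul signHom (Multiplicative.ofAdd a) (Multiplicative.ofAdd b)
  rw [← ofAdd_add, signHom_apply, signHom_apply, signHom_apply] at this
  exact this.symm

theorem signAut_zero : signAut (0 : golayCode) = 1 := map_one signHom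

theorem signAut_inv (a : golayCode) : (signAut a)⁻¹ = signAut a :=
  inv_eq_of_mul_eq_one_right (by
    rw [signAut_mul, show a + a = 0 from Subtype.ext (funext fun i => CharTwo.add_self_eq_zero _),
      signAut_zero])

theorem mem_range_signHom {g : Co0} : g ∈ signHom.range ↔ ∃ d : golayCode, g = signAut d :=
  ⟨fun ⟨d, hd⟩ => ⟨d.toAdd, hd.symm⟩, fun ⟨d, hd⟩ => ⟨Multiplicative.ofAdd d, hd.symm⟩⟩

theorem negAut_ne_one : negAut ≠ (1 : Co0) := fun h => by
  have := congrArg (fun g : Co0 => coordVec (g • axisVec none) none) h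
  simp only [coordVec_negAut, one_smul, coordVec_axisVec, if_true] at this
  omega

theorem signAut_mem_center_iff (d : golayCode) :
    signAut d ∈ Subgroup.center Co0 ↔
      (d : GolayPt → ZMod 2) = 0 ∨ (d : GolayPt → ZMod 2) = 1 := by
  constructor
  · intro h
    rcases center_co0 h with e | e
    · left; rw [← signAut_zero] at e; rw [signAut_injective e]; rfl
    · right; rw [← signAut_oneWord] at e; rw [signAut_injective e]; rfl
  · rintro (e | e)
    · rw [show d = 0 from Subtype.ext e, signAut_zero]; exact Subgroup.one_mem _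
    · rw [show d = oneWord from Subtype.ext e, signAut_oneWord]; exact negAut_mem_center

theorem eq_range_signHom {N : Subgroup Co0}
    (hmono : ∀ n ∈ N, ∃ (d : golayCode) (σ : M24), n = signAut d * permAut σ)
    (hneg : negAut ∈ N)
    (hsign : ∀ (d : golayCode), ∀ n ∈ N, signAut d * n * (signAut d)⁻¹ ∈ N)
    (hperm : ∀ (σ : M24), ∀ n ∈ N, permAut σ * n * (permAut σ)⁻¹ ∈ N)
    (hab : ∀ a ∈ N, ∀ b ∈ N, a * b * a⁻¹ * b⁻¹ ∈ Subgroup.center Co0)
    (hne : ∃ n ∈ N, n ∉ Subgroup.center Co0) : N = signHom.range := by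
  let W : AddSubgroup (GolayPt → ZMod 2) :=
    { carrier := {w | ∃ hw : w ∈ golayCode, signAut ⟨w, hw⟩ ∈ N}
      zero_mem' := ⟨golayCode.zero_mem, (congrArg (· ∈ N) signAut_zero).mpr N.one_mem⟩
      add_mem' := fun {a b} ⟨ha, hA⟩ ⟨hb, hB⟩ => ⟨golayCode.add_mem ha hb,
        (congrArg (· ∈ N) (signAut_mul ⟨a, ha⟩ ⟨b, hb⟩)).mp (N.mul_mem hA hB)⟩
      neg_mem' := fun {a} ⟨ha, hA⟩ => by
        rw [show -a = a from funext fun i => ZMod.neg_eq_self_mod_two (a i)]
        exact ⟨ha, hA⟩ }
  have hW1 : (1 : GolayPt → ZMod 2) ∈ W :=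
    ⟨one_mem_golayCode, (congrArg (· ∈ N) signAut_oneWord).mpr hneg⟩
  have hinv : ∀ t, ∀ w ∈ W, w ∘ shiftPerm t ∈ W := by
    rintro t w ⟨hw, hA⟩
    refine ⟨shift_mem_golayCode t hw, ?_⟩
    let σ : M24 := ⟨shiftPerm t, shiftPerm_mem_M24 t⟩
    have h := hperm σ⁻¹ _ hA
    rw [permAut_mul_signAut, mul_inv_cancel_right] at h
    convert h using 3
    funext i
    show w (shiftPerm t i) = w (((σ⁻¹ : M24) : Equiv.Perm GolayPt).symm i)
    rw [Subgroup.coe_inv, Equiv.Perm.inv_def, Equiv.symm_symm]
  have hkey : ∀ (d : golayCode) (σ : M24), signAut d * permAut σ ∈ N →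
      (∀ c : golayCode,
        (fun i => (c : GolayPt → ZMod 2) ((σ : Equiv.Perm GolayPt).symm i)) + (c : GolayPt → ZMod 2) ∈ W) := by
    intro d σ hn c
    let c' : golayCode := ⟨fun i => (c : GolayPt → ZMod 2) ((σ : Equiv.Perm GolayPt).symm i),
      comp_mem_golayCode (M24.inv_mem σ.2) c.2⟩
    refine ⟨(c' + c).2, ?_⟩
    have h := N.mul_mem hn (hsign c _ (N.inv_mem hn))
    have e : signAut d * permAut σ * (signAut c * (signAut d * permAut σ)⁻¹ * (signAut c)⁻¹) =
        signAut (c' + c) := by
      calc signAut d * permAut σ * (signAut c * (signAut d * permAut σ)⁻¹ * (signAut c)⁻¹)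
          = signAut d * (permAut σ * signAut c) * (permAut σ)⁻¹ * (signAut d)⁻¹ * (signAut c)⁻¹ := by group
        _ = signAut d * (signAut c' * permAut σ) * (permAut σ)⁻¹ * (signAut d)⁻¹ * (signAut c)⁻¹ := by
            rw [permAut_mul_signAut]
        _ = signAut d * signAut c' * (signAut d)⁻¹ * (signAut c)⁻¹ := by group
        _ = signAut (d + c' + d + c) := by
            rw [signAut_inv, signAut_inv, signAut_mul, signAut_mul, signAut_mul]
        _ = signAut (c' + c) := by
            congr 1
            refine Subtype.ext (funext fun i => ?_)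
            show (d : GolayPt → ZMod 2) i + (c' : GolayPt → ZMod 2) i + (d : GolayPt → ZMod 2) i +
              (c : GolayPt → ZMod 2) i = (c' : GolayPt → ZMod 2) i + (c : GolayPt → ZMod 2) i
            generalize (d : GolayPt → ZMod 2) i = a
            generalize (c' : GolayPt → ZMod 2) i = b
            generalize (c : GolayPt → ZMod 2) i = r
            revert a b r; decide
    rw [e] at h; exact h
  -- the permutation part of every element is trivial
  have hσ : ∀ (d : golayCode) (σ : M24), signAut d * permAut σ ∈ N → σ = 1 := by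
    intro d σ hn
    refine eq_one_of_fix_code fun c => ?_
    let c' : golayCode := ⟨fun i => (c : GolayPt → ZMod 2) ((σ : Equiv.Perm GolayPt).symm i),
      comp_mem_golayCode (M24.inv_mem σ.2) c.2⟩
    have hc : ((c' + c : golayCode) : GolayPt → ZMod 2) = 0 ∨ ((c' + c : golayCode) : GolayPt → ZMod 2) = 1 := by
      by_cases hall : ∀ w ∈ W, w = 0 ∨ w = 1
      · exact hall _ (hkey d σ hn c)
      · push Not at hall
        obtain ⟨w, hw, hw0, hw1⟩ := hall
        obtain ⟨hc2, hcN⟩ := code_invariant_eq_top W (fun w hw => hw.1) hW1 hinv hw hw0 hw1 _ c.2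
        rw [← signAut_mem_center_iff]
        have h := hab _ hn _ hcN
        have e : signAut d * permAut σ * signAut c * (signAut d * permAut σ)⁻¹ * (signAut c)⁻¹ =
            signAut (c' + c) := by
          calc signAut d * permAut σ * signAut c * (signAut d * permAut σ)⁻¹ * (signAut c)⁻¹
              = signAut d * (permAut σ * signAut c) * (permAut σ)⁻¹ * (signAut d)⁻¹ * (signAut c)⁻¹ := by group
            _ = signAut d * (signAut c' * permAut σ) * (permAut σ)⁻¹ * (signAut d)⁻¹ * (signAut c)⁻¹ := by
                rw [permAut_mul_signAut]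
            _ = signAut d * signAut c' * (signAut d)⁻¹ * (signAut c)⁻¹ := by group
            _ = signAut (d + c' + d + c) := by
                rw [signAut_inv, signAut_inv, signAut_mul, signAut_mul, signAut_mul]
            _ = signAut (c' + c) := by
                congr 1
                refine Subtype.ext (funext fun i => ?_)
                show (d : GolayPt → ZMod 2) i + (c' : GolayPt → ZMod 2) i + (d : GolayPt → ZMod 2) i +
                  (c : GolayPt → ZMod 2) i = (c' : GolayPt → ZMod 2) i + (c : GolayPt → ZMod 2) i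
                generalize (d : GolayPt → ZMod 2) i = a
                generalize (c' : GolayPt → ZMod 2) i = b
                generalize (c : GolayPt → ZMod 2) i = r
                revert a b r; decide
        rw [← e]; exact h
    rcases hc with h | h
    · left; intro i
      have h1 : (c : GolayPt → ZMod 2) ((σ : Equiv.Perm GolayPt).symm i) + (c : GolayPt → ZMod 2) i = 0 :=
        congrFun h i
      exact CharTwo.add_eq_zero.1 h1
    · right; intro i
      have h1 : (c : GolayPt → ZMod 2) ((σ : Equiv.Perm GolayPt).symm i) + (c : GolayPt → ZMod 2) i = 1 :=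
        congrFun h i
      revert h1
      generalize (c : GolayPt → ZMod 2) ((σ : Equiv.Perm GolayPt).symm i) = a
      generalize (c : GolayPt → ZMod 2) i = b
      revert a b; decide
  have hle : ∀ n ∈ N, ∃ d, n = signAut d := fun n hn => by
    obtain ⟨d, σ, rfl⟩ := hmono n hn
    have h1 := hσ d σ hn
    subst h1
    exact ⟨d, by rw [← permHom_apply, map_one, mul_one]⟩
  obtain ⟨n, hn, hnc⟩ := hne
  obtain ⟨d, rfl⟩ := hle n hn
  rw [signAut_mem_center_iff, not_or] at hnc
  have hall := code_invariant_eq_top W (fun w hw => hw.1) hW1 hinv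
    (show (d : GolayPt → ZMod 2) ∈ W from ⟨d.2, hn⟩) hnc.1 hnc.2
  refine le_antisymm (fun m hm => mem_range_signHom.2 (hle m hm)) fun m hm => ?_
  obtain ⟨c, rfl⟩ := mem_range_signHom.1 hm
  exact (hall c c.2).2

end CfsgLib.Fischer2
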