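import Cfsg.Agent.Lib.Fischer2.LeechOrbits
import Cfsg.Agent.Lib.Leech.Layers
import Cfsg.Agent.Lib.Leech.Index

/-!
The lattice modulo twice itself: for a nondegenerate invariant quadratic form the non-zero singular
classes are exactly those of the vectors of squared length 32 and 64.
-/

set_option autoImplicit false

namespace CfsgLib.Fischer2

open Cfsg Finset CfsgLib.Leech

/-- Twice the lattice. -/
def twoLat : AddSubgroup leechLattice :=
  (AddMonoidHom.id leechLattice + AddMonoidHom.id leechLattice).range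

theorem mem_twoLat {v : leechLattice} : v ∈ twoLat ↔ ∃ w : leechLattice, v = w + w :=
  ⟨fun ⟨w, hw⟩ => ⟨w, hw.symm⟩, fun ⟨w, hw⟩ => ⟨w, hw.symm⟩⟩

/-- The lattice modulo twice itself. -/
abbrev LeechMod : Type := leechLattice ⧸ twoLat

theorem mk_eq_iff_congTwo {v w : leechLattice} :
    (QuotientAddGroup.mk v : LeechMod) = QuotientAddGroup.mk w ↔ CongTwo v w := by
  rw [QuotientAddGroup.eq, mem_twoLat]
  constructor
  · rintro ⟨u, hu⟩
    refine ⟨-u, ?_⟩
    rw [← neg_add_cancel_left v w] at *
    rw [neg_add_cancel_left] at hu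
    rw [← neg_add_rev u u, ← hu]; abel
  · rintro ⟨u, rfl⟩; exact ⟨-u, by abel⟩

theorem mk_eq_zero_iff {v : leechLattice} :
    (QuotientAddGroup.mk v : LeechMod) = 0 ↔ ∃ w : leechLattice, v = w + w :=
  (QuotientAddGroup.eq_zero_iff v).trans mem_twoLat

theorem leechMod_add_self (x : LeechMod) : x + x = 0 := by
  obtain ⟨v, rfl⟩ := QuotientAddGroup.mk_surjective x
  rw [← QuotientAddGroup.mk_add, mk_eq_zero_iff]; exact ⟨v, rfl⟩

theorem finite_leechMod : Finite LeechMod := by
  let f : leechLattice → GolayPt → ZMod 16 := fun v p => ((coordVec v p : ℤ) : ZMod 16)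
  refine Finite.of_injective (fun x : LeechMod => f x.out) fun x y hxy => ?_
  rw [← QuotientAddGroup.out_eq' x, ← QuotientAddGroup.out_eq' y, mk_eq_iff_congTwo]
  have h16 : ∀ p, (16 : ℤ) ∣ coordVec x.out p - coordVec y.out p := fun p => by
    apply (ZMod.intCast_zmod_eq_zero_iff_dvd _ 16).1
    rw [Int.cast_sub]; exact sub_eq_zero.2 (congrFun hxy p)
  refine ⟨⟨fun p => 8 * ((coordVec x.out p - coordVec y.out p) / 16), eight_mul_mem _⟩,
    Subtype.ext (funext fun p => ?_)⟩
  show coordVec x.out p = coordVec y.out p + (8 * ((coordVec x.out p - coordVec y.out p) / 16) +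
    8 * ((coordVec x.out p - coordVec y.out p) / 16))
  obtain ⟨k, hk⟩ := h16 p
  omega

/-- The lattice vectors of a given squared length. -/
def normSet (n : ℤ) : Set leechLattice := {v | sqNorm (coordVec v) = n}

theorem ncard_normSet (n : ℤ) : (normSet n).ncard = (layer n).ncard := by
  rw [← Set.ncard_image_of_injective (normSet n) (Subtype.val_injective)]
  congr 1
  ext x
  exact ⟨fun ⟨v, hv, e⟩ => e ▸ ⟨v.2, hv⟩, fun ⟨hx, hn⟩ => ⟨⟨x, hx⟩, hn, rfl⟩⟩

theorem normSet_finite {n : ℤ} : (normSet n).Finite :=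
  (layer_finite n).preimage Subtype.val_injective.injOn |>.subset fun v hv => ⟨v.2, hv⟩

/-- The classes of the vectors of a given squared length. -/
def normClasses (n : ℤ) : Set LeechMod :=
  (fun v : leechLattice => (QuotientAddGroup.mk v : LeechMod)) '' normSet n

theorem card_normSet_le {n : ℤ} {k : ℕ}
    (h : ∀ v ∈ normSet n, {w | w ∈ normSet n ∧ CongTwo w v}.ncard ≤ k) :
    (normSet n).ncard ≤ k * (normClasses n).ncard := by
  classical
  rw [normClasses, Set.ncard_eq_toFinset_card _ normSet_finite,
    show (fun v : leechLattice => (QuotientAddGroup.mk v : LeechMod)) '' normSet n =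
      ↑((normSet_finite (n := n)).toFinset.image fun v => (QuotientAddGroup.mk v : LeechMod)) by
      simp, Set.ncard_coe_finset]
  refine Finset.card_le_mul_card_image _ k fun c hc => ?_
  obtain ⟨v, hv, rfl⟩ := Finset.mem_image.1 hc
  refine le_trans (le_of_eq ?_) (h v ((Set.Finite.mem_toFinset _).1 hv))
  rw [← Set.ncard_coe_finset]
  congr 1
  ext w
  simp [mk_eq_iff_congTwo]

theorem card_class32 : 98280 ≤ (normClasses 32).ncard := by
  have h := card_normSet_le (n := 32) (k := 2) fun v hv => by
    have hsub : {w | w ∈ normSet 32 ∧ CongTwo w v} ⊆ {v, -v} := by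
      rintro w ⟨hw, hc⟩
      rcases congTwo_cases hc (by rw [hw]; norm_num) (by rw [hv]; norm_num) with e | e | ⟨e, -, -⟩
      · exact Or.inl e
      · exact Or.inr e
      · rw [hw] at e; norm_num at e
    exact (Set.ncard_le_ncard hsub (Set.toFinite _)).trans ((Set.ncard_insert_le _ _).trans (by simp))
  rw [ncard_normSet, ncard_layer_32] at h
  omega

theorem card_class64 : 8292375 ≤ (normClasses 64).ncard := by
  classical
  have h := card_normSet_le (n := 64) (k := 48) fun v hv => by
    obtain ⟨g, hg⟩ := isAxisClass_norm64 v hv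
    let A : Finset (GolayPt → ℤ) := (Finset.univ : Finset (GolayPt × Bool)).image
      fun pb q => if q = pb.1 then (if pb.2 then 8 else -8) else 0
    have hinj : Function.Injective fun w : leechLattice => coordVec (g • w) :=
      fun a b e => MulAction.injective g (Subtype.ext e)
    rw [← Set.ncard_image_of_injective _ hinj]
    have hsub : (fun w : leechLattice => coordVec (g • w)) '' {w | w ∈ normSet 64 ∧ CongTwo w v} ⊆ ↑A := by
      rintro x ⟨w, ⟨hw, hc⟩, rfl⟩
      obtain ⟨p, hp, h0⟩ := axis_of_congTwo_vecA (v := g • w) (by rw [sqNorm_smul']; exact hw)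
        ((hc.smul g).trans hg)
      simp only [Finset.coe_image, Finset.coe_univ, Set.image_univ, Set.mem_range, A]
      refine ⟨(p, decide (0 ≤ coordVec (g • w) p)), funext fun q => ?_⟩
      by_cases hq : q = p
      · subst hq
        rw [if_pos rfl]
        rcases abs_choice (coordVec (g • w) q) with e | e <;> rw [e] at hp
        · simp [show 0 ≤ coordVec (g • w) q by omega, hp]
        · simp [show ¬ 0 ≤ coordVec (g • w) q by omega]; omega
      · rw [if_neg hq, h0 q hq]
    refine (Set.ncard_le_ncard hsub A.finite_toSet).trans ?_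
    rw [Set.ncard_coe_finset]
    exact Finset.card_image_le.trans (by simp [GolayPt])
  rw [ncard_normSet, ncard_layer_64] at h
  omega

theorem zmod2_char_eq : ∀ a b c : ZMod 2,
    (if a = 0 then (1 : ℤ) else -1) * (if a + b + c = 0 then 1 else -1) =
      (if b = 0 then 1 else -1) * (if c = 0 then 1 else -1) := by decide

variable {q : leechLattice → ZMod 2} {β : leechLattice → leechLattice → ZMod 2}

/-- The singular classes number at most `(2²⁴ + 2¹²) / 2`. -/
theorem card_singular_le (h : IsInvariantForm q β)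
    (hnd : ∀ v, (∀ w, β v w = 0) → ∃ u : leechLattice, v = u + u)
    (hcard : Nat.card LeechMod = 2 ^ 24) :
    {x : LeechMod | q x.out = 0}.ncard ≤ 8390656 := by
  classical
  have := finite_leechMod
  have := Fintype.ofFinite LeechMod
  have hcongq : ∀ v w : leechLattice, CongTwo v w → q v = q w := by
    rintro v w ⟨u, rfl⟩; exact h.add_double w u
  have hout : ∀ x y : LeechMod, q (x + y).out = q (x.out + y.out) := fun x y =>
    hcongq _ _ (mk_eq_iff_congTwo.1 (by
      rw [QuotientAddGroup.out_eq', QuotientAddGroup.mk_add, QuotientAddGroup.out_eq',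
        QuotientAddGroup.out_eq']))
  have hcard' : (Fintype.card LeechMod : ℤ) = 16777216 := by
    rw [← Nat.card_eq_fintype_card, hcard]; norm_num
  let χ : ZMod 2 → ℤ := fun a => if a = 0 then 1 else -1
  set T : ℤ := ∑ x : LeechMod, χ (q x.out) with hT
  have hsq : T * T = (2 : ℤ) ^ 24 := by
    rw [hT, Finset.sum_mul_sum]
    have h1 : ∀ x : LeechMod, ∑ y : LeechMod, χ (q x.out) * χ (q y.out) =
        ∑ w : LeechMod, χ (q w.out) * χ (β x.out w.out) := by
      intro x
      rw [← Equiv.sum_comp (Equiv.addLeft x)]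
      refine Finset.sum_congr rfl fun w _ => ?_
      show χ (q x.out) * χ (q (x + w).out) = _
      rw [hout, h.add]
      exact zmod2_char_eq _ _ _
    rw [Finset.sum_congr rfl fun x _ => h1 x, Finset.sum_comm]
    simp only [← Finset.mul_sum]
    have hbeta : ∀ v v' w : leechLattice, CongTwo v v' → β v w = β v' w := by
      rintro v v' w ⟨u, rfl⟩
      rw [h.add_left, h.add_left, zmod2_add_self, add_zero]
    have hbeta0 : ∀ w, β 0 w = 0 := h.zero_left
    rw [Finset.sum_eq_single (0 : LeechMod)]
    · have h0 : ∀ v, β v (0 : LeechMod).out = 0 := fun v => by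
        rw [h.symm, hbeta _ 0 v (mk_eq_iff_congTwo.1 (by rw [QuotientAddGroup.out_eq']; rfl)), hbeta0]
      simp only [h0, hcongq _ 0 (mk_eq_iff_congTwo.1 (show (QuotientAddGroup.mk (0 : LeechMod).out
        : LeechMod) = QuotientAddGroup.mk 0 by rw [QuotientAddGroup.out_eq']; rfl)), h.zero]
      simp [χ, hcard']
    · intro w _ hw
      obtain ⟨a, ha⟩ : ∃ a : leechLattice, β w.out a ≠ 0 := by
        by_contra hall
        push Not at hall
        exact hw (by rw [← QuotientAddGroup.out_eq' w]; exact mk_eq_zero_iff.2 (hnd _ hall))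
      have ha1 : β w.out a = 1 := (zmod2_cases _).resolve_left ha
      have hz : ∑ x : LeechMod, χ (β x.out w.out) = 0 := by
        have h2 : ∑ x : LeechMod, χ (β x.out w.out) = -∑ x : LeechMod, χ (β x.out w.out) := by
          conv_lhs => rw [← Equiv.sum_comp (Equiv.addRight (QuotientAddGroup.mk a : LeechMod))]
          rw [← Finset.sum_neg_distrib]
          refine Finset.sum_congr rfl fun x _ => ?_
          show χ (β (x + QuotientAddGroup.mk a).out w.out) = _
          rw [hbeta _ (x.out + a) _ (mk_eq_iff_congTwo.1 (by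
              rw [QuotientAddGroup.out_eq', QuotientAddGroup.mk_add, QuotientAddGroup.out_eq'])),
            h.add_left, h.symm a, ha1]
          rcases zmod2_cases (β x.out w.out) with e | e <;>
            simp [χ, e, show (1 : ZMod 2) + 1 = 0 by decide]
        omega
      rw [hz, mul_zero]
    · exact fun h => absurd (Finset.mem_univ _) h
  have hle : T ≤ 4096 := by nlinarith
  set S := Finset.univ.filter fun x : LeechMod => q x.out = 0 with hS
  have hsplit : T = 2 * (S.card : ℤ) - (2 : ℤ) ^ 24 := by
    have e : ∀ x : LeechMod, χ (q x.out) = 2 * (if q x.out = 0 then 1 else 0) - 1 := fun x => by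
      simp only [χ]; split <;> norm_num
    rw [hT, Finset.sum_congr rfl fun x _ => e x, Finset.sum_sub_distrib, ← Finset.mul_sum,
      Finset.sum_boole]
    simp [hcard', hS]
  rw [show {x : LeechMod | q x.out = 0} = ↑S by simp [hS], Set.ncard_coe_finset]
  omega

/-- The singular classes are those of the vectors of squared length 0, 32 and 64. -/
theorem class_of_singular (h : IsInvariantForm q β)
    (hnd : ∀ v, (∀ w, β v w = 0) → ∃ u : leechLattice, v = u + u)
    (hcard : Nat.card LeechMod = 2 ^ 24) {v : leechLattice} (hv : q v = 0) :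
    (∃ u : leechLattice, v = u + u) ∨
      ∃ w : leechLattice, (sqNorm (coordVec w) = 32 ∨ sqNorm (coordVec w) = 64) ∧ CongTwo v w := by
  have := finite_leechMod
  have hcongq : ∀ a b : leechLattice, CongTwo a b → q a = q b := by
    rintro a b ⟨u, rfl⟩; exact h.add_double b u
  set U : Set LeechMod := {0} ∪ (normClasses 32 ∪ normClasses 64) with hU
  have hsub : U ⊆ {x : LeechMod | q x.out = 0} := by
    rintro x (rfl | ⟨w, hw, rfl⟩ | ⟨w, hw, rfl⟩)
    · show q _ = 0
      rw [hcongq _ 0 (mk_eq_iff_congTwo.1 (by rw [QuotientAddGroup.out_eq']; rfl)), h.zero]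
    · show q _ = 0
      rw [hcongq _ w (mk_eq_iff_congTwo.1 (QuotientAddGroup.out_eq' _))]
      obtain ⟨g, hg⟩ := sameOrbit_norm32 hw (show some (0 : ZMod 23) ≠ none by simp)
      rw [← h.inv g, hg, ← vecK_eq_pairVec, h.q_vecK]
    · show q _ = 0
      rw [hcongq _ w (mk_eq_iff_congTwo.1 (QuotientAddGroup.out_eq' _))]
      obtain ⟨g, hg⟩ := isAxisClass_norm64 w hw
      rw [← h.inv g, hcongq _ _ hg, h.q_vecA]
  have hd : Disjoint (normClasses 32) (normClasses 64) := Set.disjoint_left.2 <| by
    rintro x ⟨a, ha, rfl⟩ ⟨b, hb, e⟩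
    have ha' : sqNorm (coordVec a) = 32 := ha
    have hb' : sqNorm (coordVec b) = 64 := hb
    rcases congTwo_cases (mk_eq_iff_congTwo.1 e.symm) (by omega) (by omega) with r | r | ⟨r, -, -⟩
    · rw [r] at ha'; omega
    · rw [r] at ha'; simp [coordVec, sqNorm] at ha'; rw [sqNorm] at hb'; simp [coordVec] at hb'; omega
    · omega
  have h0 : (0 : LeechMod) ∉ normClasses 32 ∪ normClasses 64 := by
    have key : ∀ n : ℤ, 0 < n → n ≤ 64 → (0 : LeechMod) ∉ normClasses n := by
      rintro n hn hn' ⟨a, ha, e⟩
      have ha' : sqNorm (coordVec a) = n := ha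
      rcases congTwo_cases (mk_eq_iff_congTwo.1 (e.trans (by rfl : (0 : LeechMod) = QuotientAddGroup.mk 0)))
        (by omega) (by simp [sqNorm]) with r | r | ⟨-, r, -⟩
      · rw [r] at ha'; simp [sqNorm] at ha'; omega
      · rw [r, neg_zero] at ha'; simp [sqNorm] at ha'; omega
      · simp [sqNorm] at r
    exact fun hx => hx.elim (key 32 (by norm_num) (by norm_num)) (key 64 (by norm_num) (by norm_num))
  have hcardU : 8390656 ≤ U.ncard := by
    rw [hU, Set.ncard_union_eq (Set.disjoint_singleton_left.2 h0) (Set.toFinite _) (Set.toFinite _),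
      Set.ncard_union_eq hd (Set.toFinite _) (Set.toFinite _), Set.ncard_singleton]
    have := card_class32
    have := card_class64
    omega
  have heq := Set.eq_of_subset_of_ncard_le hsub
    ((card_singular_le h hnd hcard).trans hcardU) (Set.toFinite _)
  have hmem : (QuotientAddGroup.mk v : LeechMod) ∈ U := by
    rw [heq]
    show q _ = 0
    rw [hcongq _ v (mk_eq_iff_congTwo.1 (QuotientAddGroup.out_eq' _))]; exact hv
  rcases hmem with h0 | ⟨w, hw, e⟩ | ⟨w, hw, e⟩
  · exact Or.inl (mk_eq_zero_iff.1 h0)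
  · exact Or.inr ⟨w, Or.inl hw, (mk_eq_iff_congTwo.1 e).symm⟩
  · exact Or.inr ⟨w, Or.inr hw, (mk_eq_iff_congTwo.1 e).symm⟩

end CfsgLib.Fischer2
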