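import Cfsg.Agent.Lib.Fischer2.LeechFrame
import Cfsg.Agent.Lib.Fischer2.LeechSingular

/-!
The stabiliser in `Co0` of the pair `±u` of short vectors has no normal 2-subgroup other than
subgroups of the centre.
-/

set_option autoImplicit false

namespace CfsgLib.Fischer2

open Cfsg Finset CfsgLib.Leech CfsgLib.GolayStructure

local notation "uu" => Spor.leechU'
local notation "pa" => (none : GolayPt)
local notation "pb" => (some 0 : GolayPt)

theorem coordVec_uu (p : GolayPt) :
    coordVec uu p = if p = pa then 4 else if p = pb then -4 else 0 := rfl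

theorem uu_other {p : GolayPt} (ha : p ≠ pa) (hb : p ≠ pb) : coordVec uu p = 0 := by
  rw [coordVec_uu, if_neg ha, if_neg hb]

theorem sum_eq_two_points (f : GolayPt → ℤ) {a b : GolayPt} (hab : a ≠ b)
    (h : ∀ q, q ≠ a → q ≠ b → f q = 0) : ∑ q, f q = f a + f b := by
  rw [← Finset.sum_subset (Finset.subset_univ {a, b}) (fun q _ hq => by
    simp only [Finset.mem_insert, Finset.mem_singleton, not_or] at hq; exact h q hq.1 hq.2),
    Finset.sum_pair hab]

theorem sqNorm_uu : sqNorm (coordVec uu) = 32 := by
  rw [sqNorm, sum_eq_two_points _ (show pa ≠ pb by simp) (fun q ha hb => by rw [uu_other ha hb]; norm_num),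
    coordVec_uu, coordVec_uu]
  norm_num

theorem dot_uu (x : leechLattice) :
    dotInt (coordVec x) (coordVec uu) = 4 * (coordVec x pa - coordVec x pb) := by
  rw [dotInt, sum_eq_two_points _ (show pa ≠ pb by simp) (fun q ha hb => by rw [uu_other ha hb, mul_zero]),
    coordVec_uu, coordVec_uu]
  simp; ring

/-- Fixing or negating `u`. -/
def InStab (g : Co0) : Prop := g • uu = uu ∨ g • uu = -uu

theorem inStab_negAut : InStab negAut := Or.inr (negAut_apply _)

theorem InStab.mul {g h : Co0} (hg : InStab g) (hh : InStab h) : InStab (g * h) := by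
  rcases hg with e | e <;> rcases hh with e' | e' <;>
    simp [InStab, mul_smul, e, e', smul_neg_co0]

theorem InStab.inv {g : Co0} (hg : InStab g) : InStab g⁻¹ := by
  rcases hg with e | e
  · exact Or.inl (inv_smul_eq_iff.2 e.symm)
  · exact Or.inr (inv_smul_eq_iff.2 (by rw [smul_neg_co0, e, neg_neg]))

theorem inStab_signAut {d : golayCode}
    (h : (d : GolayPt → ZMod 2) pa = (d : GolayPt → ZMod 2) pb) : InStab (signAut d) := by
  have key : ∀ p, coordVec (signAut d • uu) p =
      if (d : GolayPt → ZMod 2) pa = 0 then coordVec uu p else -coordVec uu p := by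
    intro p
    rw [coordVec_signAut]
    by_cases hp : p = pa ∨ p = pb
    · rcases hp with rfl | rfl
      · rfl
      · rw [h]
    · push Not at hp
      rw [uu_other hp.1 hp.2, neg_zero, ite_self, ite_self]
  rcases zmod2_cases ((d : GolayPt → ZMod 2) pa) with e | e
  · exact Or.inl (Subtype.ext (funext fun p => by show coordVec _ p = _; rw [key, if_pos e]))
  · exact Or.inr (Subtype.ext (funext fun p => by
      show coordVec _ p = _; rw [key, e, if_neg one_ne_zero]; rfl))

theorem inStab_xi {T : Finset GolayPt} (hT : T.card = 4) (ha : pa ∈ T) (hb : pb ∈ T) (g : Co0)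
    (hg : (∀ p ∈ T, coordVec (g • uu) p = coordVec uu p - (∑ q ∈ T, coordVec uu q) / 2) ∧
      ∀ U ∈ sextetOf T, ∀ p ∈ U,
        |coordVec (g • uu) p| = |coordVec uu p - (∑ q ∈ U, coordVec uu q) / 2|) : InStab g := by
  have hsum : ∑ q ∈ T, coordVec uu q = 0 := by
    rw [Finset.sum_subset (Finset.subset_univ T) (fun q _ hq =>
        uu_other (fun e => hq (by rw [e]; exact ha)) (fun e => hq (by rw [e]; exact hb))),
      sum_eq_two_points _ (show pa ≠ pb by simp) (fun q h h' => uu_other h h'), coordVec_uu, coordVec_uu]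
    simp
  refine Or.inl (Subtype.ext (funext fun p => ?_))
  show coordVec (g • uu) p = coordVec uu p
  obtain ⟨U, hU, hp⟩ := exists_tetrad (sextetOf_mem hT) p
  rcases eq_or_ne U T with rfl | hne
  · rw [hg.1 p hp, hsum]; norm_num
  · have hd := sextet_disjoint (sextetOf_mem hT) (Finset.mem_insert_self _ _) hU hne.symm
    have h0 : ∀ q ∈ U, coordVec uu q = 0 := fun q hq =>
      uu_other (fun e => Finset.disjoint_left.1 hd ha (by rw [← e]; exact hq))
        (fun e => Finset.disjoint_left.1 hd hb (by rw [← e]; exact hq))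
    have := hg.2 U hU p hp
    rw [h0 p hp, Finset.sum_eq_zero h0] at this
    rw [h0 p hp]; simpa using this

/-- The vectors of squared length 32 orthogonal to `u`. -/
def IsShort (v : leechLattice) : Prop :=
  sqNorm (coordVec v) = 32 ∧ coordVec v pa = coordVec v pb

theorem IsShort.smul {v : leechLattice} (h : IsShort v) {g : Co0} (hg : InStab g) : IsShort (g • v) := by
  refine ⟨by rw [sqNorm_smul']; exact h.1, ?_⟩
  have h1 := CfsgLib.Leech.dotInt_smul g v uu
  change dotInt (coordVec (g • v)) (coordVec (g • uu)) = dotInt (coordVec v) (coordVec uu) at h1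
  rw [dot_uu, h.2, sub_self, mul_zero] at h1
  rcases hg with e | e <;> rw [e] at h1
  · rw [dot_uu] at h1; omega
  · have : dotInt (coordVec (g • v)) (coordVec (-uu)) = -dotInt (coordVec (g • v)) (coordVec uu) := by
      simp [coordVec, dotInt, Finset.sum_neg_distrib]
    rw [this, dot_uu] at h1; omega

/-- The orbit relation of the stabiliser. -/
def StabOrbit (v w : leechLattice) : Prop := ∃ g : Co0, InStab g ∧ g • v = w

theorem StabOrbit.trans {u v w : leechLattice} (h : StabOrbit u v) (h' : StabOrbit v w) :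
    StabOrbit u w := by
  obtain ⟨g, hg, rfl⟩ := h; obtain ⟨g', hg', rfl⟩ := h'; exact ⟨g' * g, hg'.mul hg, mul_smul _ _ _⟩

theorem StabOrbit.symm {v w : leechLattice} (h : StabOrbit v w) : StabOrbit w v := by
  obtain ⟨g, hg, rfl⟩ := h; exact ⟨g⁻¹, hg.inv, inv_smul_smul _ _⟩

theorem stabOrbit_neg (v : leechLattice) : StabOrbit v (-v) := ⟨negAut, inStab_negAut, negAut_apply v⟩

/-- Prescribed signs away from the support of `u`. -/
theorem exists_flip_away {T : Finset GolayPt} (hT : T.card ≤ 5) (ha : pa ∉ T) (hb : pb ∉ T)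
    (neg : GolayPt → Bool) (v : leechLattice) :
    ∃ g : Co0, InStab g ∧ coordVec (g • v) pa = coordVec v pa ∧ coordVec (g • v) pb = coordVec v pb ∧
      (∀ p, |coordVec (g • v) p| = |coordVec v p|) ∧ (∀ p, coordVec (g • v) p % 2 = coordVec v p % 2) ∧
      ∀ i ∈ T, coordVec (g • v) i = if neg i then -|coordVec v i| else |coordVec v i| := by
  obtain ⟨d, hd, hdi⟩ := exists_code_on (T := insert pa (insert pb T))
    (by rw [Finset.card_insert_of_notMem (by simp [ha]), Finset.card_insert_of_notMem hb]; omega)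
    (fun i => if i = pa ∨ i = pb then 0 else if (neg i = true ↔ 0 ≤ coordVec v i) then 1 else 0)
  have ea : d pa = 0 := by rw [hdi pa (by simp)]; simp
  have eb : d pb = 0 := by rw [hdi pb (by simp)]; simp
  refine ⟨signAut ⟨d, hd⟩, inStab_signAut (ea.trans eb.symm), ?_, ?_, fun p => signAut_abs _ v p,
    fun p => signAut_even _ v p, fun i hi => ?_⟩
  · rw [coordVec_signAut]; exact if_pos ea
  · rw [coordVec_signAut]; exact if_pos eb
  rw [coordVec_signAut]
  show (if d i = 0 then _ else _) = _
  rw [hdi i (by simp [hi]), if_neg (show ¬(i = pa ∨ i = pb) from fun h => by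
    rcases h with e | e
    · exact ha (by rw [← e]; exact hi)
    · exact hb (by rw [← e]; exact hi))]
  cases neg i <;> rcases le_or_gt 0 (coordVec v i) with h2 | h2 <;>
    simp [h2, abs_of_nonneg, abs_of_neg, not_le.2]

/-- The other short vector on the support of `u`. -/
def uStar : leechLattice := pairVec pa pb

theorem coordVec_uStar (p : GolayPt) :
    coordVec uStar p = if p = pa then 4 else if p = pb then 4 else 0 := by
  rw [uStar, coordVec_pairVec]
  by_cases h1 : p = pa
  · subst h1; simp
  · by_cases h2 : p = pb <;> simp [h1, h2]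

theorem dot_uStar (x : leechLattice) :
    dotInt (coordVec x) (coordVec uStar) = 4 * (coordVec x pa + coordVec x pb) := by
  rw [dotInt, sum_eq_two_points _ (show pa ≠ pb by simp) (fun q ha hb => by
      rw [coordVec_uStar, if_neg ha, if_neg hb, mul_zero]), coordVec_uStar, coordVec_uStar]
  simp; ring

theorem stabOrbit_pair {k l : GolayPt} (hkl : k ≠ l) (hka : k ≠ pa) (hkb : k ≠ pb) (hla : l ≠ pa)
    (hlb : l ≠ pb) : StabOrbit (-pairVec k l) uStar := by
  obtain ⟨hcard, -⟩ := sum_four (fun _ => (0 : ℤ)) (show pa ≠ pb by simp) hka.symm hla.symm hkb.symm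
    hlb.symm hkl
  obtain ⟨g, hg⟩ := exists_xi hcard
  have hg0 : InStab g := inStab_xi hcard (by simp) (by simp) g (hg uu)
  refine StabOrbit.symm ⟨g, hg0, ?_⟩
  have hsum : ∑ q ∈ ({pa, pb, k, l} : Finset GolayPt), coordVec uStar q = 8 := by
    rw [(sum_four (coordVec uStar) (show pa ≠ pb by simp) hka.symm hla.symm hkb.symm hlb.symm hkl).2]
    simp [coordVec_uStar, hka, hkb, hla, hlb]
  apply Subtype.ext; funext p
  show coordVec (g • uStar) p = -coordVec (pairVec k l) p
  rw [coordVec_pairVec]
  by_cases hp : p ∈ ({pa, pb, k, l} : Finset GolayPt)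
  · have h := (hg uStar).1 p hp
    change coordVec (g • uStar) p = coordVec uStar p - (∑ q ∈ _, coordVec uStar q) / 2 at h
    rw [h, hsum, coordVec_uStar]
    simp only [Finset.mem_insert, Finset.mem_singleton] at hp
    rcases hp with rfl | rfl | rfl | rfl <;> simp [hka, hkb, hla, hlb, hkl, hkl.symm, Ne.symm hka, Ne.symm hkb,
      Ne.symm hla, Ne.symm hlb]
  · obtain ⟨U, hU, hpU⟩ := exists_tetrad (sextetOf_mem hcard) p
    have hne : U ≠ {pa, pb, k, l} := fun e => hp (e ▸ hpU)
    have hd := sextet_disjoint (sextetOf_mem hcard) (Finset.mem_insert_self _ _) hU hne.symm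
    have h0 : ∀ q ∈ U, coordVec uStar q = 0 := fun q hq => by
      have : q ∉ ({pa, pb, k, l} : Finset GolayPt) := Finset.disjoint_right.1 hd hq
      simp only [Finset.mem_insert, Finset.mem_singleton, not_or] at this
      simp [coordVec_uStar, this.1, this.2.1]
    have h := (hg uStar).2 U hU p hpU
    change |coordVec (g • uStar) p| = |coordVec uStar p - (∑ q ∈ U, coordVec uStar q) / 2| at h
    rw [h0 p hpU, Finset.sum_eq_zero h0] at h
    simp only [Finset.mem_insert, Finset.mem_singleton, not_or] at hp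
    simp [hp.2.2.1, hp.2.2.2]
    simpa using h

/-- Short vectors with a coordinate `±4` are in the orbit of the other vector on the support of `u`. -/
theorem stabOrbit_four {v : leechLattice} (hv : IsShort v) {k : GolayPt} (hk : |coordVec v k| = 4) :
    StabOrbit v uStar := by
  have he : ∀ p, coordVec v p % 2 = 0 := by
    rcases even_or_odd_coords v with h | h
    · exact h
    · have := h k
      rcases abs_choice (coordVec v k) with e | e <;> omega
  rcases shape32 v hv.1 he with ⟨O, -, h2, h0⟩ | ⟨i, j, hij, hi, hj, h0⟩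
  · exfalso
    by_cases hkO : k ∈ O
    · rw [h2 k hkO] at hk; norm_num at hk
    · rw [h0 k hkO] at hk; norm_num at hk
  by_cases hia : coordVec v pa = 0
  · have hib : coordVec v pb = 0 := hv.2 ▸ hia
    have hne : ∀ p, |coordVec v p| = 4 → p ≠ pa ∧ p ≠ pb := fun p hp =>
      ⟨fun e => by rw [e, hia] at hp; norm_num at hp, fun e => by rw [e, hib] at hp; norm_num at hp⟩
    obtain ⟨g, hg, -, -, habs, -, hval⟩ := exists_flip_away (T := {i, j})
      (by rw [Finset.card_pair hij]; norm_num) (by simp [(hne i hi).1.symm, (hne j hj).1.symm])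
      (by simp [(hne i hi).2.symm, (hne j hj).2.symm]) (fun _ => true) v
    refine StabOrbit.trans ⟨g, hg, Subtype.ext (funext fun p => ?_)⟩
      (stabOrbit_pair hij (hne i hi).1 (hne i hi).2 (hne j hj).1 (hne j hj).2)
    show coordVec (g • v) p = -coordVec (pairVec i j) p
    rw [coordVec_pairVec]
    by_cases h1 : p = i
    · subst h1; rw [hval p (by simp), hi]; simp [hij]
    by_cases h2 : p = j
    · subst h2; rw [hval p (by simp), hj]; simp [h1]
    · have := habs p
      rw [h0 p h1 h2, abs_zero, abs_eq_zero] at this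
      simpa [h1, h2] using this
  · have hp : ∀ p, coordVec v p ≠ 0 → p = i ∨ p = j := fun p hp => by
      by_contra h; push Not at h; exact hp (h0 p h.1 h.2)
    have hib : coordVec v pb ≠ 0 := hv.2 ▸ hia
    have hset : ∀ q, q ≠ pa → q ≠ pb → coordVec v q = 0 := by
      intro q hqa hqb
      have hab : pa ≠ pb := by simp
      by_contra hq
      rcases hp pa hia with e1 | e1 <;> rcases hp pb hib with e2 | e2 <;> rcases hp q hq with e3 | e3 <;>
        first
          | exact hab (e1.trans e2.symm)
          | exact hqa (e3.trans e1.symm)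
          | exact hqb (e3.trans e2.symm)
    have ha4 : |coordVec v pa| = 4 := by
      rcases hp pa hia with e | e <;> rw [e] <;> assumption
    rcases abs_choice (coordVec v pa) with e | e
    · refine ⟨1, Or.inl (one_smul _ _), ?_⟩
      rw [one_smul]
      refine Subtype.ext (funext fun p => ?_)
      show coordVec v p = coordVec uStar p
      rw [coordVec_uStar]
      by_cases h1 : p = pa
      · subst h1; rw [if_pos rfl]; omega
      by_cases h2 : p = pb
      · subst h2; rw [if_neg h1, if_pos rfl, ← hv.2]; omega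
      · rw [if_neg h1, if_neg h2, hset p h1 h2]
    · refine ⟨negAut, inStab_negAut, Subtype.ext (funext fun p => ?_)⟩
      show -coordVec v p = coordVec uStar p
      rw [coordVec_uStar]
      by_cases h1 : p = pa
      · subst h1; rw [if_pos rfl]; omega
      by_cases h2 : p = pb
      · subst h2; rw [if_neg h1, if_pos rfl, ← hv.2]; omega
      · rw [if_neg h1, if_neg h2, hset p h1 h2, neg_zero]

theorem stabOrbit_even {v : leechLattice} (hv : IsShort v) (he : ∀ p, coordVec v p % 2 = 0) :
    StabOrbit v uStar := by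
  rcases shape32 v hv.1 he with ⟨O, hO, h2, h0⟩ | ⟨i, -, -, hi, -, -⟩
  swap
  · exact stabOrbit_four hv hi
  have hab : pa ≠ pb := by simp
  have h8 := CfsgLib.Golay.card_eq_of_mem_octads hO
  by_cases haO : pa ∈ O
  · have hbO : pb ∈ O := by
      by_contra h
      have h1 := hv.2; have h3 := h2 _ haO; rw [h1, h0 _ h] at h3; norm_num at h3
    obtain ⟨w, hvw, hwa, habs⟩ : ∃ w, StabOrbit v w ∧ coordVec w pa = 2 ∧
        ∀ p, |coordVec w p| = |coordVec v p| := by
      rcases abs_choice (coordVec v pa) with e | e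
      · exact ⟨v, ⟨1, Or.inl (one_smul _ _), one_smul _ _⟩, by rw [← e, h2 _ haO], fun p => rfl⟩
      · refine ⟨-v, stabOrbit_neg v, ?_, fun p => abs_neg _⟩
        show -coordVec v pa = 2
        rw [← e, h2 _ haO]
    obtain ⟨g₀, hg₀, rfl⟩ := hvw
    have hw := hv.smul hg₀
    obtain ⟨c, d, hc, hd, hcd⟩ : ∃ c d, c ∈ (O.erase pa).erase pb ∧ d ∈ (O.erase pa).erase pb ∧ c ≠ d :=
      Finset.one_lt_card_iff.1 (by
        rw [Finset.card_erase_of_mem (Finset.mem_erase.2 ⟨hab.symm, hbO⟩), Finset.card_erase_of_mem haO, h8]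
        norm_num)
    simp only [Finset.mem_erase] at hc hd
    obtain ⟨g₁, hg₁, e1a, e1b, habs1, -, hval⟩ := exists_flip_away (T := {c, d})
      (by rw [Finset.card_pair hcd]; norm_num) (by simp [Ne.symm hc.2.1, Ne.symm hd.2.1])
      (by simp [Ne.symm hc.1, Ne.symm hd.1]) (fun p => decide (p = d)) (g₀ • v)
    obtain ⟨hcard, -⟩ := sum_four (fun _ => (0 : ℤ)) hab (Ne.symm hc.2.1) (Ne.symm hd.2.1)
      (Ne.symm hc.1) (Ne.symm hd.1) hcd
    obtain ⟨g, hg⟩ := exists_xi hcard
    have hg0 : InStab g := inStab_xi hcard (by simp) (by simp) g (hg uu)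
    have hs : ∑ q ∈ ({pa, pb, c, d} : Finset GolayPt), coordVec (g₁ • g₀ • v) q = 4 := by
      rw [(sum_four (coordVec (g₁ • g₀ • v)) hab (Ne.symm hc.2.1) (Ne.symm hd.2.1) (Ne.symm hc.1)
        (Ne.symm hd.1) hcd).2, e1a, e1b, ← hw.2, hwa, hval c (by simp), hval d (by simp), habs, habs,
        h2 c hc.2.2, h2 d hd.2.2]
      simp [hcd]
    have hyd : |coordVec (g • g₁ • g₀ • v) d| = 4 := by
      have h := (hg (g₁ • g₀ • v)).1 d (by simp)
      change coordVec (g • g₁ • g₀ • v) d = coordVec (g₁ • g₀ • v) d - (∑ q ∈ _, coordVec (g₁ • g₀ • v) q) / 2 at h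
      rw [h, hs, hval d (by simp), habs, h2 d hd.2.2]
      simp
    exact ((StabOrbit.trans ⟨g₀, hg₀, rfl⟩ ⟨g₁, hg₁, rfl⟩).trans ⟨g, hg0, rfl⟩).trans
      (stabOrbit_four ((hw.smul hg₁).smul hg0) hyd)
  · have hbO : pb ∉ O := fun h => by
      have h1 := hv.2; rw [h0 _ haO] at h1; have h3 := h2 _ h; rw [← h1] at h3; norm_num at h3
    obtain ⟨F, hFO, hF⟩ := Finset.exists_subset_card_eq (s := O) (n := 3) (by rw [h8]; norm_num)
    obtain ⟨O₁, hO₁, hsub⟩ := exists_octad_superset (s := insert pa (insert pb F))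
      ((Finset.card_insert_le _ _).trans (by have := Finset.card_insert_le pb F; omega))
    simp only [Finset.insert_subset_iff] at hsub
    have hne : O ≠ O₁ := fun e => haO (e ▸ hsub.1)
    have hI : (O ∩ O₁).card = 4 := by
      have := Finset.card_le_card (Finset.subset_inter hFO hsub.2.2)
      rcases CfsgLib.Golay.octad_inter_card hO hO₁ hne with e | e | e <;> omega
    have hTcard : (O₁ \ O).card = 4 := by
      have := Finset.card_sdiff_add_card_inter O₁ O
      rw [Finset.inter_comm, hI, CfsgLib.Golay.card_eq_of_mem_octads hO₁] at this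
      omega
    have hU : O ∩ O₁ ∈ sextetOf (O₁ \ O) := Finset.mem_insert_of_mem (mem_partners.2
      ⟨O₁, hO₁, Finset.sdiff_subset, by rw [sdiff_sdiff_self_left, Finset.inter_comm]⟩)
    obtain ⟨t, ht⟩ := Finset.card_pos.1 (by rw [hI]; norm_num : 0 < (O ∩ O₁).card)
    obtain ⟨g₁, hg₁, -, -, habs, -, hval⟩ := exists_flip_away (T := O ∩ O₁) (by rw [hI]; norm_num)
      (by simp [haO]) (by simp [hbO]) (fun p => decide (p = t)) v
    obtain ⟨g, hg⟩ := exists_xi hTcard
    have hg0 : InStab g := inStab_xi hTcard (Finset.mem_sdiff.2 ⟨hsub.1, haO⟩)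
      (Finset.mem_sdiff.2 ⟨hsub.2.1, hbO⟩) g (hg uu)
    have hs : ∑ q ∈ O ∩ O₁, coordVec (g₁ • v) q = 4 := by
      rw [← Finset.add_sum_erase _ _ ht, hval t ht, h2 t (Finset.mem_inter.1 ht).1,
        Finset.sum_congr rfl (g := fun _ => (2 : ℤ)) (fun q hq => by
          rw [hval q (Finset.mem_of_mem_erase hq), h2 q (Finset.mem_inter.1 (Finset.mem_of_mem_erase hq)).1]
          simp [Finset.ne_of_mem_erase hq])]
      simp [Finset.card_erase_of_mem ht, hI]
    have hy : |coordVec (g • g₁ • v) t| = 4 := by
      have h := (hg (g₁ • v)).2 _ hU t ht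
      change |coordVec (g • g₁ • v) t| = |coordVec (g₁ • v) t - (∑ q ∈ O ∩ O₁, coordVec (g₁ • v) q) / 2| at h
      rw [h, hs, hval t ht, h2 t (Finset.mem_inter.1 ht).1]
      simp
    exact (StabOrbit.trans ⟨g₁, hg₁, rfl⟩ ⟨g, hg0, rfl⟩).trans
      (stabOrbit_four ((hv.smul hg₁).smul hg0) hy)

theorem sqNorm_uStar : sqNorm (coordVec uStar) = 32 := by
  rw [sqNorm, sum_eq_two_points _ (show pa ≠ pb by simp) (fun q ha hb => by
      rw [coordVec_uStar, if_neg ha, if_neg hb]; norm_num), coordVec_uStar, coordVec_uStar]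
  norm_num

/-- The stabiliser is transitive on the short vectors orthogonal to `u`. -/
theorem stabOrbit_of_isShort {v : leechLattice} (hv : IsShort v) : StabOrbit v uStar := by
  rcases even_or_odd_coords v with he | ho
  · exact stabOrbit_even hv he
  have hab : pa ≠ pb := by simp
  have h1 : ∀ q, (1 : ℤ) ≤ coordVec v q ^ 2 := fun q => sq_ge_of_abs (k := 1) (by norm_num)
    (by have := ho q; rcases abs_cases (coordVec v q) with h | h <;> omega)
  have ha1 : |coordVec v pa| = 1 := by
    by_contra hne
    have h9 : ∀ q ∈ ({pa, pb} : Finset GolayPt), (9 : ℤ) ≤ coordVec v q ^ 2 := by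
      have h3 : 3 ≤ |coordVec v pa| := by
        have := ho pa
        rcases abs_cases (coordVec v pa) with h | h <;> omega
      intro q hq
      rcases Finset.mem_insert.1 hq with rfl | hq
      · exact sq_ge_of_abs (k := 3) (by norm_num) h3
      · rw [Finset.mem_singleton.1 hq, ← hv.2]; exact sq_ge_of_abs (k := 3) (by norm_num) h3
    have := norm_bound (coordVec v) (A := Finset.univ \ {pa, pb}) (B := {pa, pb}) (a := 1) (b := 9)
      Finset.sdiff_disjoint (fun q _ => h1 q) h9
    rw [Finset.card_sdiff_of_subset (Finset.subset_univ _), card_univ_golayPt, Finset.card_pair hab, hv.1]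
      at this
    norm_num at this
  obtain ⟨g₀, hg₀, hwa⟩ : ∃ g₀, InStab g₀ ∧ coordVec (g₀ • v) pa = 1 := by
    rcases abs_choice (coordVec v pa) with e | e
    · exact ⟨1, Or.inl (one_smul _ _), by rw [one_smul, ← e, ha1]⟩
    · exact ⟨negAut, inStab_negAut, by rw [coordVec_negAut, ← e, ha1]⟩
  have hw := hv.smul hg₀
  have how : ∀ p, coordVec (g₀ • v) p % 2 = 1 := by
    rcases even_or_odd_coords (g₀ • v) with h | h
    · have := h pa; omega
    · exact h
  set w := g₀ • v with hwdef
  obtain ⟨c, d, hc, hd, hcd⟩ : ∃ c d, c ∈ (Finset.univ.erase pa).erase pb ∧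
      d ∈ (Finset.univ.erase pa).erase pb ∧ c ≠ d := Finset.one_lt_card_iff.1 (by decide)
  simp only [Finset.mem_erase, Finset.mem_univ, and_true] at hc hd
  obtain ⟨g₁, hg₁, e1a, e1b, -, hpar, hval⟩ := exists_flip_away (T := {c, d})
    (by rw [Finset.card_pair hcd]; norm_num) (by simp [Ne.symm hc.2, Ne.symm hd.2])
    (by simp [Ne.symm hc.1, Ne.symm hd.1])
    (fun p => if p = c then decide (|coordVec w p| % 4 = 3) else decide (|coordVec w p| % 4 = 1)) w
  obtain ⟨hcard, -⟩ := sum_four (fun _ => (0 : ℤ)) hab (Ne.symm hc.2) (Ne.symm hd.2)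
    (Ne.symm hc.1) (Ne.symm hd.1) hcd
  obtain ⟨g, hg⟩ := exists_xi hcard
  have hg0 : InStab g := inStab_xi hcard (by simp) (by simp) g (hg uu)
  have hc4 : coordVec (g₁ • w) c % 4 = 1 := by
    rw [hval c (by simp)]
    have := how c
    simp only [if_true]
    by_cases h : |coordVec w c| % 4 = 3 <;> simp [h] <;>
      rcases abs_choice (coordVec w c) with e | e <;> omega
  have hd4 : coordVec (g₁ • w) d % 4 = 3 := by
    rw [hval d (by simp)]
    have := how d
    simp only [if_neg hcd.symm]
    by_cases h : |coordVec w d| % 4 = 1 <;> simp [h] <;>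
      rcases abs_choice (coordVec w d) with e | e <;> omega
  have hs : (∑ q ∈ ({pa, pb, c, d} : Finset GolayPt), coordVec (g₁ • w) q) % 4 = 2 := by
    rw [(sum_four (coordVec (g₁ • w)) hab (Ne.symm hc.2) (Ne.symm hd.2) (Ne.symm hc.1)
        (Ne.symm hd.1) hcd).2, e1a, e1b, ← hw.2, hwa]
    omega
  have hev := xi_odd_to_even (g₁ • w) hcard g (hg (g₁ • w)).2 hs (fun p => by rw [hpar]; exact how p)
  exact ((StabOrbit.trans ⟨g₀, hg₀, rfl⟩ ⟨g₁, hg₁, rfl⟩).trans ⟨g, hg0, rfl⟩).trans
    (stabOrbit_even ((hw.smul hg₁).smul hg0) hev)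

/-- Congruent to `0` or to `u` modulo twice the lattice. -/
def wSub : AddSubgroup leechLattice where
  carrier := {x | ∃ w, x = w + w ∨ x = uu + (w + w)}
  zero_mem' := ⟨0, Or.inl (by simp)⟩
  add_mem' := by
    rintro x y ⟨a, ha⟩ ⟨b, hb⟩
    rcases ha with rfl | rfl <;> rcases hb with rfl | rfl
    · exact ⟨a + b, Or.inl (by abel)⟩
    · exact ⟨a + b, Or.inr (by abel)⟩
    · exact ⟨a + b, Or.inr (by abel)⟩
    · exact ⟨a + b + uu, Or.inl (by abel)⟩
  neg_mem' := by
    rintro x ⟨a, ha⟩
    rcases ha with rfl | rfl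
    · exact ⟨-a, Or.inl (by abel)⟩
    · exact ⟨-a - uu, Or.inr (by abel)⟩

theorem wSub_smul {g : Co0} (hg : InStab g) {x : leechLattice} (hx : x ∈ wSub) : g • x ∈ wSub := by
  obtain ⟨w, rfl | rfl⟩ := hx
  · exact ⟨g • w, Or.inl (smul_add_co0 g w w)⟩
  · rcases hg with e | e
    · exact ⟨g • w, Or.inr (by rw [smul_add_co0, smul_add_co0, e])⟩
    · exact ⟨g • w - uu, Or.inr (by rw [smul_add_co0, smul_add_co0, e]; abel)⟩

theorem mem_wSub_of_congTwo {x y : leechLattice} (h : CongTwo x y) : x - y ∈ wSub := by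
  obtain ⟨w, rfl⟩ := h; exact ⟨w, Or.inl (by abel)⟩

/-- Orthogonal to `u` modulo two. -/
def perpSub : AddSubgroup leechLattice where
  carrier := {x | (16 : ℤ) ∣ dotInt (coordVec x) (coordVec uu)}
  zero_mem' := by simp [dot_uu]
  add_mem' := by
    intro x y hx hy
    simp only [Set.mem_ofPred_eq, dot_uu] at hx hy ⊢
    simp only [coordVec, AddSubgroup.coe_add, Pi.add_apply]
    simp only [coordVec] at hx hy
    omega
  neg_mem' := by
    intro x hx
    simp only [Set.mem_ofPred_eq, dot_uu] at hx ⊢
    simp only [coordVec, AddSubgroup.coe_neg, Pi.neg_apply]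
    simp only [coordVec] at hx
    omega

theorem mem_perpSub {x : leechLattice} :
    x ∈ perpSub ↔ (coordVec x pa - coordVec x pb) % 4 = 0 := by
  show (16 : ℤ) ∣ dotInt (coordVec x) (coordVec uu) ↔ _
  rw [dot_uu]; omega

theorem perpSub_smul {g : Co0} (hg : InStab g) {x : leechLattice} (hx : x ∈ perpSub) : g • x ∈ perpSub := by
  have h1 : dotInt (coordVec (g • x)) (coordVec (g • uu)) = dotInt (coordVec x) (coordVec uu) :=
    CfsgLib.Leech.dotInt_smul g x uu
  show (16 : ℤ) ∣ dotInt (coordVec (g • x)) (coordVec uu)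
  rcases hg with e | e <;> rw [e] at h1
  · rw [h1]; exact hx
  · have : dotInt (coordVec (g • x)) (coordVec uu) = -dotInt (coordVec (g • x)) (coordVec (-uu)) := by
      simp [coordVec, dotInt, Finset.sum_neg_distrib]
    rw [this, h1]; exact (dvd_neg).2 hx

theorem uStar_notMem_wSub : uStar ∉ wSub := by
  rintro ⟨w, hw | hw⟩
  · rcases congTwo_cases (v := uStar) (w := 0) ⟨w, by rw [hw, zero_add]⟩ (by rw [sqNorm_uStar]; norm_num)
      (by simp [sqNorm]) with e | e | ⟨-, e, -⟩
    · have := congrArg (fun x => coordVec x pa) e; simp [coordVec_uStar] at this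
    · have := congrArg (fun x => coordVec x pa) e; simp [coordVec_uStar] at this
    · simp [sqNorm] at e
  · rcases congTwo_cases (v := uStar) (w := uu) ⟨w, hw⟩ (by rw [sqNorm_uStar]; norm_num)
      (by rw [sqNorm_uu]; norm_num) with e | e | ⟨e, -, -⟩
    · have := congrArg (fun x => coordVec x pb) e; simp [coordVec_uStar, coordVec_uu] at this
    · have := congrArg (fun x => coordVec x pa) e
      simp only [coordVec, AddSubgroup.coe_neg, Pi.neg_apply] at this
      rw [← coordVec, ← coordVec, coordVec_uStar, coordVec_uu] at this; norm_num at this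
    · rw [sqNorm_uStar] at e; norm_num at e

section

variable (N : Subgroup Co0)

/-- Fixed by `N` modulo `wSub`. -/
def IsFixedMod (x : leechLattice) : Prop := x ∈ perpSub ∧ ∀ n ∈ N, n • x - x ∈ wSub

variable {N}

theorem IsFixedMod.of_sub {x y : leechLattice} (hx : IsFixedMod N x) (hy : y - x ∈ wSub)
    (hN : ∀ n ∈ N, InStab n) : IsFixedMod N y := by
  have hperp : y ∈ perpSub := by
    have hsub : y - x ∈ perpSub := by
      obtain ⟨w, e | e⟩ := hy <;> rw [e, mem_perpSub]
      · show (coordVec w pa + coordVec w pa - (coordVec w pb + coordVec w pb)) % 4 = 0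
        rcases even_or_odd_coords w with h | h <;> have := h pa <;> have := h pb <;> omega
      · show (coordVec uu pa + (coordVec w pa + coordVec w pa) -
          (coordVec uu pb + (coordVec w pb + coordVec w pb))) % 4 = 0
        rw [show coordVec uu pa = 4 from rfl, show coordVec uu pb = -4 from rfl]
        rcases even_or_odd_coords w with h | h <;> have := h pa <;> have := h pb <;> omega
    have := perpSub.add_mem hsub hx.1
    rwa [sub_add_cancel] at this
  refine ⟨hperp, fun n hn => ?_⟩
  have h1 := wSub_smul (hN n hn) hy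
  rw [sub_eq_add_neg, smul_add_co0, smul_neg_co0] at h1
  have := wSub.add_mem (wSub.sub_mem h1 hy) (hx.2 n hn)
  convert this using 1
  abel

theorem IsFixedMod.smul_sub {x : leechLattice} (hx : IsFixedMod N x) {h : Co0} (hh : InStab h)
    (hnorm : ∀ n ∈ N, h⁻¹ * n * h ∈ N) : IsFixedMod N (h • x - x) := by
  refine ⟨perpSub.sub_mem (perpSub_smul hh hx.1) hx.1, fun n hn => ?_⟩
  have h1 := wSub_smul hh (hx.2 _ (hnorm n hn))
  rw [sub_eq_add_neg, smul_add_co0, smul_neg_co0, ← mul_smul,
    show h * (h⁻¹ * n * h) = n * h by group, mul_smul] at h1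
  have := wSub.sub_mem h1 (hx.2 n hn)
  convert this using 1
  rw [sub_eq_add_neg (h • x), smul_add_co0, smul_neg_co0]
  abel

variable (hN : ∀ n ∈ N, InStab n) (hnorm : ∀ h : Co0, InStab h → ∀ n ∈ N, h * n * h⁻¹ ∈ N)
include hN hnorm

omit hnorm in
theorem exists_fixedMod (hN2 : IsPGroup 2 N) : ∃ x, IsFixedMod N x ∧ x ∉ wSub := by
  classical
  let W : AddSubgroup perpSub := wSub.addSubgroupOf perpSub
  have := finite_leechMod
  have : Finite (perpSub ⧸ W) := by
    refine Finite.of_injective (fun m => (QuotientAddGroup.mk ((m.out : perpSub) : leechLattice) : LeechMod))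
      fun a b e => ?_
    rw [← QuotientAddGroup.out_eq' a, ← QuotientAddGroup.out_eq' b, QuotientAddGroup.eq]
    have h := wSub.neg_mem (mem_wSub_of_congTwo (mk_eq_iff_congTwo.1 e))
    rw [neg_sub] at h
    show -((a.out : perpSub) : leechLattice) + _ ∈ wSub
    rw [neg_add_eq_sub]; exact h
  let act : N → perpSub →+ perpSub := fun n =>
    { toFun := fun x => ⟨(n : Co0) • (x : leechLattice), perpSub_smul (hN n n.2) x.2⟩
      map_zero' := Subtype.ext (smul_zero_co0 _)
      map_add' := fun x y => Subtype.ext (smul_add_co0 _ _ _) }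
  have hW : ∀ n : N, W ≤ W.comap (act n) := fun n x hx => wSub_smul (hN n n.2) hx
  let inst : MulAction N (perpSub ⧸ W) :=
    { smul := fun n => QuotientAddGroup.map W W (act n) (hW n)
      one_smul := fun m => by
        obtain ⟨x, rfl⟩ := QuotientAddGroup.mk_surjective m
        show QuotientAddGroup.map W W (act 1) (hW 1) _ = _
        rw [QuotientAddGroup.map_mk]
        congr 1
      mul_smul := fun a b m => by
        obtain ⟨x, rfl⟩ := QuotientAddGroup.mk_surjective m
        show QuotientAddGroup.map W W (act (a * b)) _ _ =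
          QuotientAddGroup.map W W (act a) _ (QuotientAddGroup.map W W (act b) _ _)
        rw [QuotientAddGroup.map_mk, QuotientAddGroup.map_mk, QuotientAddGroup.map_mk]
        congr 1 }
  have h2 : ∀ m : perpSub ⧸ W, m + m = 0 := by
    intro m
    obtain ⟨x, rfl⟩ := QuotientAddGroup.mk_surjective m
    rw [← QuotientAddGroup.mk_add, QuotientAddGroup.eq_zero_iff]
    exact ⟨(x : leechLattice), Or.inl rfl⟩
  let s0 : perpSub := ⟨uStar, mem_perpSub.2 (by simp [coordVec_uStar])⟩
  have hs0 : (QuotientAddGroup.mk s0 : perpSub ⧸ W) ≠ 0 := fun h =>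
    uStar_notMem_wSub ((QuotientAddGroup.eq_zero_iff s0).1 h)
  have hdvd : 2 ∣ Nat.card (perpSub ⧸ W) := by
    have hord : addOrderOf (QuotientAddGroup.mk s0 : perpSub ⧸ W) = 2 :=
      addOrderOf_eq_prime (p := 2) (by rw [two_nsmul]; exact h2 _) hs0
    rw [← hord]; exact addOrderOf_dvd_natCard _
  have : Fact (Nat.Prime 2) := ⟨Nat.prime_two⟩
  have h0 : (0 : perpSub ⧸ W) ∈ MulAction.fixedPoints N (perpSub ⧸ W) := fun n => map_zero _
  obtain ⟨m, hm, hne⟩ := hN2.exists_fixed_point_of_prime_dvd_card_of_fixed_point _ hdvd h0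
  obtain ⟨x, rfl⟩ := QuotientAddGroup.mk_surjective m
  refine ⟨x, ⟨x.2, fun n hn => ?_⟩, fun h => hne ((QuotientAddGroup.eq_zero_iff x).2 h).symm⟩
  have h := hm ⟨n, hn⟩
  change QuotientAddGroup.map W W (act ⟨n, hn⟩) (hW _) (QuotientAddGroup.mk x) = _ at h
  rw [QuotientAddGroup.map_mk, QuotientAddGroup.eq] at h
  have h' : -(n • (x : leechLattice)) + (x : leechLattice) ∈ wSub := h
  have := wSub.neg_mem h'
  rwa [neg_add, neg_neg, ← sub_eq_add_neg] at this

omit hN hnorm in
theorem parity_of_wSub {x : leechLattice} (hx : x ∈ wSub) (h4 : ∀ p, coordVec x p % 4 = 0) :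
    (fun p => ((coordVec x p / 4 : ℤ) : ZMod 2)) ∈ golayCode ∨
      (fun p => ((coordVec x p / 4 : ℤ) : ZMod 2) + if p = pa ∨ p = pb then 1 else 0) ∈ golayCode := by
  obtain ⟨w, e⟩ := hx
  have hw : ∀ p, coordVec x p = 2 * coordVec w p + (if x = w + w then 0 else coordVec uu p) := by
    intro p
    by_cases hc : x = w + w
    · rw [if_pos hc]
      have := congrArg (fun y => coordVec y p) hc
      simp only [coordVec, AddSubgroup.coe_add, Pi.add_apply] at this ⊢
      omega
    · rw [if_neg hc]
      have := congrArg (fun y => coordVec y p) (e.resolve_left hc)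
      simp only [coordVec, AddSubgroup.coe_add, Pi.add_apply] at this ⊢
      omega
  have hu4 : ∀ p, coordVec uu p % 4 = 0 := fun p => by rw [coordVec_uu]; split_ifs <;> norm_num
  have hweven : ∀ p, coordVec w p % 2 = 0 := fun p => by
    have := hw p; have := hu4 p; have := h4 p
    split_ifs at * <;> omega
  have hmem := CfsgLib.Leech.mem_supports_iff.1 (twoSet_mem w)
  by_cases hc : x = w + w
  · left
    convert hmem using 1
    funext p
    have h1 := hw p; rw [if_pos hc] at h1
    have := hweven p
    by_cases h2 : p ∈ twoSet w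
    · rw [if_pos h2]; have := mem_twoSet.1 h2
      exact ((ZMod.intCast_eq_intCast_iff' _ 1 2).2 (by omega)).trans Int.cast_one
    · rw [if_neg h2]; have : coordVec w p % 4 ≠ 2 := fun h => h2 (mem_twoSet.2 h)
      exact ((ZMod.intCast_eq_intCast_iff' _ 0 2).2 (by omega)).trans Int.cast_zero
  · right
    convert hmem using 1
    funext p
    have h1 := hw p; rw [if_neg hc] at h1
    have := hweven p
    have hu1 : (if p = pa ∨ p = pb then (1 : ZMod 2) else 0) = ((coordVec uu p / 4 : ℤ) : ZMod 2) := by
      rw [coordVec_uu]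
      by_cases ha : p = pa
      · simp [ha]
      · by_cases hb : p = pb
        · simp [hb]
        · simp [ha, hb]
    rw [hu1, ← Int.cast_add]
    have := hu4 p
    by_cases h2 : p ∈ twoSet w
    · rw [if_pos h2]; have := mem_twoSet.1 h2
      exact ((ZMod.intCast_eq_intCast_iff' _ 1 2).2 (by omega)).trans Int.cast_one
    · rw [if_neg h2]; have : coordVec w p % 4 ≠ 2 := fun h => h2 (mem_twoSet.2 h)
      exact ((ZMod.intCast_eq_intCast_iff' _ 0 2).2 (by omega)).trans Int.cast_zero

omit hN hnorm in
theorem code_parity_congr {f : leechLattice} (h4 : ∀ p, coordVec f p % 4 = 0)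
    (hc : (fun p => ((coordVec f p / 4 : ℤ) : ZMod 2)) ∈ golayCode) :
    f ∈ wSub ∨ CongTwo f vecA := by
  set ζ : GolayPt → ZMod 2 := fun p => ((coordVec f p / 4 : ℤ) : ZMod 2) with hζ
  have hb : ∀ p, (2 : ℤ) ∣ coordVec f p / 4 - bitVec ζ p := fun p => by
    apply (ZMod.intCast_zmod_eq_zero_iff_dvd _ 2).1
    push_cast
    have : (bitVec ζ p : ZMod 2) = ζ p := by
      rcases zmod2_cases (ζ p) with h | h <;> simp [bitVec, h]
    rw [this, hζ, sub_self]
  let z' : GolayPt → ℤ := fun p => (coordVec f p / 4 - bitVec ζ p) / 2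
  rcases Int.emod_two_eq_zero_or_one (∑ p, z' p) with he | he
  · left
    refine ⟨⟨mkVec 0 ζ z', mkVec_mem hc (by omega)⟩, Or.inl (Subtype.ext (funext fun p => ?_))⟩
    show coordVec f p = mkVec 0 ζ z' p + mkVec 0 ζ z' p
    have := hb p; have := h4 p
    simp only [mkVec, z']; omega
  · right
    refine ⟨⟨mkVec 0 ζ (fun p => z' p - if p = pa then 1 else 0), mkVec_mem hc (by
      rw [Finset.sum_sub_distrib, Finset.sum_ite_eq', if_pos (Finset.mem_univ _)]; omega)⟩,
      Subtype.ext (funext fun p => ?_)⟩
    show coordVec f p = 4 * (if p = pa then (2 : ℤ) else 0) +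
      (mkVec 0 ζ (fun p => z' p - if p = pa then 1 else 0) p +
        mkVec 0 ζ (fun p => z' p - if p = pa then 1 else 0) p)
    have := hb p; have := h4 p
    simp only [mkVec, z']
    split_ifs <;> omega

omit hN in
theorem norm_conj {h : Co0} (hh : InStab h) : ∀ n ∈ N, h⁻¹ * n * h ∈ N := fun n hn => by
  simpa using hnorm h⁻¹ hh.inv n hn

theorem fixedMod_vecA_of_four {f : leechLattice} (hf : IsFixedMod N f) (hfw : f ∉ wSub)
    (h4 : ∀ p, coordVec f p % 4 = 0) : IsFixedMod N vecA := by
  classical
  set ζ : GolayPt → ZMod 2 := fun p => ((coordVec f p / 4 : ℤ) : ZMod 2) with hζ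
  by_cases hex : ∃ d : golayCode, (d : GolayPt → ZMod 2) pa = (d : GolayPt → ZMod 2) pb ∧
      ∑ p, ζ p * (d : GolayPt → ZMod 2) p = 1
  · obtain ⟨d, hd, hodd⟩ := hex
    have hs := hf.smul_sub (inStab_signAut hd) (norm_conj hnorm (inStab_signAut hd))
    refine hs.of_sub ?_ hN
    have hsum : (2 : ℤ) ∣ (∑ p, bitVec (d : GolayPt → ZMod 2) p * (coordVec f p / 4)) - 1 := by
      apply (ZMod.intCast_zmod_eq_zero_iff_dvd _ 2).1
      push_cast
      rw [sub_eq_zero, ← hodd]
      refine Finset.sum_congr rfl fun p _ => ?_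
      rcases zmod2_cases ((d : GolayPt → ZMod 2) p) with h | h <;> simp [bitVec, h, hζ]
    refine ⟨⟨fun p => 4 * ((if p = pa then 1 else 0) + bitVec (d : GolayPt → ZMod 2) p * (coordVec f p / 4)),
      four_mul_mem ?_⟩, Or.inl (Subtype.ext (funext fun p => ?_))⟩
    · rw [Finset.sum_add_distrib, Finset.sum_ite_eq', if_pos (Finset.mem_univ _)]; omega
    · show 4 * (if p = pa then (2 : ℤ) else 0) - (coordVec (signAut d • f) p - coordVec f p) = _
      rw [coordVec_signAut]
      show _ = 4 * ((if p = pa then (1 : ℤ) else 0) + bitVec (d : GolayPt → ZMod 2) p * (coordVec f p / 4)) +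
        4 * ((if p = pa then (1 : ℤ) else 0) + bitVec (d : GolayPt → ZMod 2) p * (coordVec f p / 4))
      have := h4 p
      rcases zmod2_cases ((d : GolayPt → ZMod 2) p) with h | h <;> simp only [h, bitVec, if_true,
        one_ne_zero, if_false] <;> split_ifs <;> omega
  · push Not at hex
    obtain ⟨d0, hd0, hd0v⟩ := exists_code_on (T := {pa, pb}) (by decide)
      (fun p => if p = pa then 1 else 0)
    have h0a : d0 pa = 1 := by rw [hd0v pa (by simp)]; simp
    have h0b : d0 pb = 0 := by rw [hd0v pb (by simp)]; simp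
    have key : ∀ η : GolayPt → ZMod 2,
        (∀ d : golayCode, (d : GolayPt → ZMod 2) pa = (d : GolayPt → ZMod 2) pb →
          ∑ p, η p * (d : GolayPt → ZMod 2) p = 0) → (∑ p, η p * d0 p = 0) → η ∈ golayCode := by
      intro η h1 h2
      refine mem_golayCode_of_orth fun d hd => ?_
      by_cases he : d pa = d pb
      · exact h1 ⟨d, hd⟩ he
      · have h3 := h1 ⟨d + d0, golayCode.add_mem hd hd0⟩ (by
          show d pa + d0 pa = d pb + d0 pb
          rw [h0a, h0b]
          rcases zmod2_cases (d pa) with ea | ea <;> rcases zmod2_cases (d pb) with eb | eb <;>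
            rw [ea, eb] at he ⊢ <;> first | exact absurd rfl he | decide)
        simp only [Pi.add_apply, mul_add, Finset.sum_add_distrib, h2, add_zero] at h3
        exact h3
    have hall : ∀ d : golayCode, (d : GolayPt → ZMod 2) pa = (d : GolayPt → ZMod 2) pb →
        ∑ p, ζ p * (d : GolayPt → ZMod 2) p = 0 := fun d hd =>
      (zmod2_cases _).resolve_right (hex d hd)
    rcases zmod2_cases (∑ p, ζ p * d0 p) with e | e
    · rcases code_parity_congr h4 (key ζ hall e) with h | h
      · exact absurd h hfw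
      · exact hf.of_sub (by simpa using wSub.neg_mem (mem_wSub_of_congTwo h)) hN
    · set δ : GolayPt → ZMod 2 := fun p => if p = pa ∨ p = pb then 1 else 0 with hδ
      have hsumδ : ∀ d : GolayPt → ZMod 2, ∑ p, δ p * d p = d pa + d pb := fun d => by
        rw [← Finset.sum_subset (Finset.subset_univ {pa, pb}) (fun q _ hq => by
          simp only [Finset.mem_insert, Finset.mem_singleton, not_or] at hq
          simp [hδ, hq.1, hq.2]), Finset.sum_pair (by simp)]
        simp [hδ]
      have hmem : ζ + δ ∈ golayCode := key _ (fun d hd => by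
          simp only [Pi.add_apply, add_mul, Finset.sum_add_distrib, hall d hd, hsumδ, hd, zero_add]
          exact CharTwo.add_self_eq_zero _) (by
          simp only [Pi.add_apply, add_mul, Finset.sum_add_distrib, e, hsumδ, h0a, h0b]; decide)
      have hfu : IsFixedMod N (f + uu) := hf.of_sub ⟨0, Or.inr (by simp)⟩ hN
      have hc4 : ∀ p, coordVec (f + uu) p % 4 = 0 := fun p => by
        have := h4 p
        show (coordVec f p + coordVec uu p) % 4 = 0
        rw [coordVec_uu]; split_ifs <;> omega
      have hcode : (fun p => ((coordVec (f + uu) p / 4 : ℤ) : ZMod 2)) ∈ golayCode := by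
        convert hmem using 1
        funext p
        have := h4 p
        have hfp : coordVec (f + uu) p = coordVec f p + coordVec uu p := rfl
        rw [hfp, coordVec_uu, Pi.add_apply, hδ, hζ]
        by_cases ha : p = pa
        · simp only [ha, true_or, if_true]
          rw [show (coordVec f pa + 4) / 4 = coordVec f pa / 4 + 1 by omega, Int.cast_add, Int.cast_one]
        · by_cases hb : p = pb
          · simp only [hb, or_true, if_true, reduceCtorEq, if_false]
            rw [show (coordVec f pb + -4) / 4 = coordVec f pb / 4 - 1 by omega, Int.cast_sub, Int.cast_one,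
              sub_eq_add_neg, ZMod.neg_eq_self_mod_two]
          · simp [ha, hb]
      rcases code_parity_congr hc4 hcode with h | h
      · exact absurd (by simpa using wSub.sub_mem h ⟨0, Or.inr (by simp : uu = uu + (0 + 0))⟩) hfw
      · exact hfu.of_sub (by simpa using wSub.neg_mem (mem_wSub_of_congTwo h)) hN

theorem fixedMod_vecA_of_even {f : leechLattice} (hf : IsFixedMod N f) (hfw : f ∉ wSub)
    (he : ∀ p, coordVec f p % 2 = 0) : IsFixedMod N vecA := by
  classical
  by_cases hc0 : (twoSet f).card = 0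
  · refine fixedMod_vecA_of_four hN hnorm hf hfw fun p => ?_
    have := he p
    have : coordVec f p % 4 ≠ 2 := fun h => by
      have := Finset.card_eq_zero.1 hc0 ▸ mem_twoSet.2 h; simp at this
    omega
  by_cases hc24 : (twoSet f).card = 24
  · have hcong : CongTwo (f - (oddVec pa + oddVec pa)) f := ⟨-oddVec pa, by abel⟩
    refine fixedMod_vecA_of_four hN hnorm (hf.of_sub (mem_wSub_of_congTwo hcong) hN)
      (fun h => hfw (by convert wSub.sub_mem h (mem_wSub_of_congTwo hcong) using 1; abel)) fun p => ?_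
    have hp : p ∈ twoSet f := by
      rw [Finset.eq_univ_of_card (twoSet f) (by rw [hc24]; exact card_golayPt.symm)]; exact Finset.mem_univ p
    have := mem_twoSet.1 hp
    show (coordVec f p - (coordVec (oddVec pa) p + coordVec (oddVec pa) p)) % 4 = 0
    rw [coordVec_oddVec]; split_ifs <;> omega
  have hcard : 8 ≤ (twoSet f).card ∧ (twoSet f).card ≤ 16 := by
    rcases card_twoSet f with h | h | h | h | h <;> omega
  have hab : pa ∈ twoSet f ↔ pb ∈ twoSet f := by
    have := mem_perpSub.1 hf.1; have := he pa; have := he pb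
    rw [mem_twoSet, mem_twoSet]; omega
  have h2c : ({pa, pb} : Finset GolayPt).card ≤ 2 := Finset.card_le_two
  obtain ⟨p, hp, hpab⟩ := Finset.exists_mem_notMem_of_card_lt_card (s := ({pa, pb} : Finset GolayPt))
    (t := twoSet f) (by omega)
  obtain ⟨q, -, hq⟩ := Finset.exists_mem_notMem_of_card_lt_card (s := twoSet f ∪ {pa, pb})
    (t := (Finset.univ : Finset GolayPt)) (by
      rw [card_univ_golayPt]; have := Finset.card_union_le (twoSet f) {pa, pb}; omega)
  simp only [Finset.mem_insert, Finset.mem_singleton, Finset.mem_union, not_or] at hpab hq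
  obtain ⟨O, hO, hsub⟩ := exists_octad_superset (s := {pa, pb, p, q}) (le_trans Finset.card_le_four (by norm_num))
  simp only [Finset.insert_subset_iff, Finset.singleton_subset_iff] at hsub
  let d : golayCode := ⟨_, CfsgLib.Leech.mem_supports_iff.1 hO.1⟩
  have hdv : ∀ i, (d : GolayPt → ZMod 2) i = if i ∈ O then 1 else 0 := fun i => rfl
  have hd : (d : GolayPt → ZMod 2) pa = (d : GolayPt → ZMod 2) pb := by
    rw [hdv, hdv, if_pos hsub.1, if_pos hsub.2.1]
  have hs := hf.smul_sub (inStab_signAut hd) (norm_conj hnorm (inStab_signAut hd))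
  have hval : ∀ i, coordVec (signAut d • f - f) i = if i ∈ O then -2 * coordVec f i else 0 := fun i => by
    show coordVec (signAut d • f) i - coordVec f i = _
    rw [coordVec_signAut, hdv]
    by_cases hi : i ∈ O
    · rw [if_pos hi, if_pos hi, if_neg one_ne_zero]; ring
    · rw [if_neg hi, if_neg hi, if_pos rfl]; ring
  have h4 : ∀ i, coordVec (signAut d • f - f) i % 4 = 0 := fun i => by
    rw [hval]; have := he i; split_ifs <;> omega
  refine fixedMod_vecA_of_four hN hnorm hs (fun hw => ?_) h4
  have hz : ∀ i, ((coordVec (signAut d • f - f) i / 4 : ℤ) : ZMod 2) =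
      if i ∈ O ∩ twoSet f then 1 else 0 := fun i => by
    rw [hval]
    have := he i
    by_cases hi : i ∈ O
    · by_cases hi2 : i ∈ twoSet f
      · rw [if_pos hi, if_pos (Finset.mem_inter.2 ⟨hi, hi2⟩)]
        have := mem_twoSet.1 hi2
        exact ((ZMod.intCast_eq_intCast_iff' _ 1 2).2 (by omega)).trans Int.cast_one
      · rw [if_pos hi, if_neg (fun h => hi2 (Finset.mem_inter.1 h).2)]
        have : coordVec f i % 4 ≠ 2 := fun h => hi2 (mem_twoSet.2 h)
        exact ((ZMod.intCast_eq_intCast_iff' _ 0 2).2 (by omega)).trans Int.cast_zero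
    · rw [if_neg hi, if_neg (fun h => hi (Finset.mem_inter.1 h).1)]; simp
  have h8 := CfsgLib.Golay.card_eq_of_mem_octads hO
  have hsmall : ∀ S : Finset GolayPt, S ⊆ O → p ∈ S → q ∉ S → indWord S ∉ golayCode := fun S hS hpS hqS =>
    indWord_notMem ⟨p, hpS⟩ (by
      have := Finset.card_lt_card ((Finset.ssubset_iff_of_subset hS).2 ⟨q, hsub.2.2.2, hqS⟩); omega)
  rcases parity_of_wSub hw h4 with h | h
  · refine hsmall (O ∩ twoSet f) Finset.inter_subset_left (Finset.mem_inter.2 ⟨hsub.2.2.1, hp⟩)
      (fun hh => hq.1 (Finset.mem_inter.1 hh).2) ?_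
    convert h using 1
    funext i; rw [hz]; rfl
  · by_cases haf : pa ∈ twoSet f
    · refine hsmall ((O ∩ twoSet f) \ {pa, pb}) (Finset.sdiff_subset.trans Finset.inter_subset_left)
        (by simp [hsub.2.2.1, hp, hpab.1, hpab.2]) (by simp [hq.1]) ?_
      convert h using 1
      funext i; rw [hz]
      simp only [indWord, Finset.mem_sdiff, Finset.mem_inter, Finset.mem_insert, Finset.mem_singleton]
      by_cases hi : i = pa ∨ i = pb
      · have : i ∈ O ∧ i ∈ twoSet f := by
          rcases hi with rfl | rfl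
          · exact ⟨hsub.1, haf⟩
          · exact ⟨hsub.2.1, hab.1 haf⟩
        rw [if_pos hi, if_pos this, if_neg (fun hh => hh.2 hi)]; decide
      · rw [if_neg hi, add_zero]; exact if_congr ⟨fun hh => hh.1, fun hh => ⟨hh, hi⟩⟩ rfl rfl
    · refine hsmall ((O ∩ twoSet f) ∪ {pa, pb})
        (Finset.union_subset Finset.inter_subset_left (by simp [Finset.insert_subset_iff, hsub.1, hsub.2.1]))
        (by simp [hsub.2.2.1, hp]) (by simp [hq.1, hq.2.1, hq.2.2]) ?_
      convert h using 1
      funext i; rw [hz]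
      simp only [indWord, Finset.mem_union, Finset.mem_inter, Finset.mem_insert, Finset.mem_singleton]
      by_cases hi : i = pa ∨ i = pb
      · have : ¬(i ∈ O ∧ i ∈ twoSet f) := by
          rintro ⟨-, h2⟩
          rcases hi with rfl | rfl
          · exact haf h2
          · exact haf (hab.2 h2)
        rw [if_pos hi, if_neg this, if_pos (Or.inr hi), zero_add]
      · rw [if_neg hi, add_zero]; exact if_congr ⟨fun hh => hh.resolve_right hi, Or.inl⟩ rfl rfl

theorem fixedMod_uStar (hN2 : IsPGroup 2 N) : IsFixedMod N uStar := by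
  obtain ⟨f, hf, hfw⟩ := exists_fixedMod hN hN2
  have hA : IsFixedMod N vecA := by
    rcases even_or_odd_coords f with he | ho
    · exact fixedMod_vecA_of_even hN hnorm hf hfw he
    · obtain ⟨d, hd, hdv⟩ := exists_code_on (T := {pa, pb, some 1}) (by decide)
        (fun i => if i = some 1 then 1 else 0)
      have ea : d pa = 0 := by rw [hdv pa (by simp)]; simp
      have eb : d pb = 0 := by rw [hdv pb (by simp)]; exact if_neg (by decide)
      have ec : d (some 1) = 1 := by rw [hdv (some 1) (by simp)]; simp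
      have hh : InStab (signAut ⟨d, hd⟩) := inStab_signAut (ea.trans eb.symm)
      have hs := hf.smul_sub hh (norm_conj hnorm hh)
      have hval : ∀ i, coordVec (signAut ⟨d, hd⟩ • f - f) i = if d i = 0 then 0 else -2 * coordVec f i :=
        fun i => by
          show coordVec (signAut ⟨d, hd⟩ • f) i - coordVec f i = _
          rw [coordVec_signAut]
          show (if d i = 0 then _ else _) - _ = _
          split_ifs <;> ring
      refine fixedMod_vecA_of_even hN hnorm hs (fun hw => ?_) fun i => by
        rw [hval]; split_ifs <;> omega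
      obtain ⟨w, hw⟩ := hw
      have e1 := hval (some 1)
      have e2 := hval pa
      rw [ec, if_neg one_ne_zero] at e1
      rw [ea, if_pos rfl] at e2
      have hwpar := even_or_odd_coords w
      have := ho (some 1)
      have hu1 : coordVec uu (some 1) = 0 := rfl
      have hua : coordVec uu pa = 4 := rfl
      rcases hw with hw | hw <;> rw [hw] at e1 e2 <;>
        simp only [coordVec, AddSubgroup.coe_add, Pi.add_apply] at e1 e2 hwpar this hu1 hua <;>
        (rcases hwpar with h | h <;> have := h (some 1) <;> have := h pa <;> omega)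
  refine hA.of_sub ?_ hN
  have h8 := mem_wSub_of_congTwo (congTwo_axisVec pb)
  have he : uStar - vecA = uu + (axisVec pb - vecA) := by
    apply Subtype.ext; funext p
    show coordVec uStar p - 4 * (if p = pa then 2 else 0) =
      coordVec uu p + (coordVec (axisVec pb) p - 4 * (if p = pa then 2 else 0))
    rw [coordVec_uStar, coordVec_uu, coordVec_axisVec]
    by_cases h1 : p = pa
    · subst h1; simp
    · by_cases h2 : p = pb <;> simp [h1, h2]
  rw [he]; exact wSub.add_mem ⟨0, Or.inr (by simp)⟩ h8

theorem smul_short (hN2 : IsPGroup 2 N) {n : Co0} (hn : n ∈ N) {v : leechLattice} (hv : IsShort v) :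
    n • v = v ∨ n • v = -v := by
  obtain ⟨h, hh, hhv⟩ := (stabOrbit_of_isShort hv).symm
  have hfix := fixedMod_uStar hN hnorm hN2
  have h1 := wSub_smul hh (hfix.2 _ (norm_conj hnorm hh n hn))
  rw [sub_eq_add_neg, smul_add_co0, smul_neg_co0, ← mul_smul,
    show h * (h⁻¹ * n * h) = n * h by group, mul_smul, hhv, ← sub_eq_add_neg] at h1
  obtain ⟨w, e | e⟩ := h1
  · rcases congTwo_cases (v := n • v) (w := v) ⟨w, by rw [← e]; abel⟩
      (by rw [sqNorm_smul', hv.1]; norm_num) (by rw [hv.1]; norm_num) with r | r | ⟨r, -, -⟩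
    · exact Or.inl r
    · exact Or.inr r
    · rw [sqNorm_smul', hv.1] at r; norm_num at r
  · exfalso
    have hn64 : sqNorm (coordVec (v + uu)) = 64 := by
      show sqNorm (coordVec v + coordVec uu) = 64
      rw [sqNorm_add, dot_uu, hv.1, hv.2, sqNorm_uu]; norm_num
    rcases congTwo_cases (v := n • v) (w := v + uu) ⟨w, by rw [add_assoc, ← e]; abel⟩
      (by rw [sqNorm_smul', hv.1]; norm_num) (by rw [hn64]) with r | r | ⟨r, -, -⟩
    · have := congrArg (fun x => sqNorm (coordVec x)) r
      simp only [sqNorm_smul', hv.1, hn64] at this; norm_num at this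
    · have := congrArg (fun x => sqNorm (coordVec x)) r
      simp only [sqNorm_smul', hv.1] at this
      rw [show sqNorm (coordVec (-(v + uu))) = sqNorm (coordVec (v + uu)) from
          Finset.sum_congr rfl (fun i _ => by show (-coordVec (v + uu) i) ^ 2 = _; ring), hn64]
        at this
      norm_num at this
    · rw [sqNorm_smul', hv.1] at r; norm_num at r

end

theorem dot_neg_left (x y : leechLattice) :
    dotInt (coordVec (-x)) (coordVec y) = -dotInt (coordVec x) (coordVec y) := by
  simp [coordVec, dotInt, Finset.sum_neg_distrib]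

theorem smul_fixed_of_dot {g : Co0} {x y : leechLattice} (hx : g • x = x) (hy : g • y = y ∨ g • y = -y)
    (hne : dotInt (coordVec y) (coordVec x) ≠ 0) : g • y = y := by
  rcases hy with h | h
  · exact h
  · exfalso
    have h1 : dotInt (coordVec (g • y)) (coordVec (g • x)) = dotInt (coordVec y) (coordVec x) :=
      CfsgLib.Leech.dotInt_smul g y x
    rw [h, hx, dot_neg_left] at h1
    omega

theorem dot_pair (x : leechLattice) {c e : GolayPt} (hce : c ≠ e) :
    dotInt (coordVec x) (coordVec (pairVec c e)) = 4 * (coordVec x c + coordVec x e) := by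
  rw [dotInt, sum_eq_two_points _ hce (fun q h h' => by
      rw [coordVec_pairVec, if_neg h, if_neg h']; ring), coordVec_pairVec, coordVec_pairVec]
  simp [hce, hce.symm]; ring

theorem eq_one_of_fix_short {n : Co0} (hu : n • uu = uu ∨ n • uu = -uu) (hs : n • uStar = uStar)
    (h : ∀ v, IsShort v → n • v = v ∨ n • v = -v) : n = 1 := by
  have hodd : ∀ v, IsShort v → coordVec v pa ≠ 0 → n • v = v := fun v hv ha =>
    smul_fixed_of_dot hs (h v hv) (by rw [dot_uStar, ← hv.2]; omega)
  have hoddc : ∀ c, c ≠ pa → c ≠ pb → n • oddVec c = oddVec c := fun c ha hb =>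
    hodd _ ⟨sqNorm_oddVec c, by rw [coordVec_oddVec, coordVec_oddVec, if_neg ha.symm, if_neg hb.symm]⟩
      (by rw [coordVec_oddVec, if_neg ha.symm]; norm_num)
  have hax : ∀ c, c ≠ pa → c ≠ pb → n • axisVec c = axisVec c := by
    intro c ha hb
    obtain ⟨e, -, he⟩ := Finset.exists_mem_notMem_of_card_lt_card (s := ({pa, pb, c} : Finset GolayPt))
      (t := (Finset.univ : Finset GolayPt)) (by
        rw [card_univ_golayPt]; exact lt_of_le_of_lt Finset.card_le_three (by norm_num))
    simp only [Finset.mem_insert, Finset.mem_singleton, not_or] at he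
    obtain ⟨hea, heb, hec⟩ := he
    let m : leechLattice := pairVec c e - axisVec e
    have hm : ∀ i, coordVec m i = if i = c then 4 else if i = e then -4 else 0 := fun i => by
      show coordVec (pairVec c e) i - coordVec (axisVec e) i = _
      rw [coordVec_pairVec, coordVec_axisVec]
      by_cases h1 : i = c
      · subst h1; simp [Ne.symm hec]
      · by_cases h2 : i = e <;> simp [h1, h2, hec]
    have hp : n • pairVec c e = pairVec c e := by
      have hsh : IsShort (pairVec c e) := by
        refine ⟨?_, by rw [coordVec_pairVec, coordVec_pairVec]; simp [ha.symm, hb.symm, Ne.symm hea, Ne.symm heb]⟩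
        rw [sqNorm, sum_eq_two_points _ (Ne.symm hec) (fun q h h' => by
          rw [coordVec_pairVec, if_neg h, if_neg h']; norm_num), coordVec_pairVec, coordVec_pairVec]
        simp [hec, Ne.symm hec]
      refine smul_fixed_of_dot (hoddc c ha hb) (h _ hsh) ?_
      rw [dotInt, sum_eq_two_points _ (Ne.symm hec) (fun q h h' => by
        rw [coordVec_pairVec, if_neg h, if_neg h']; ring), coordVec_pairVec, coordVec_pairVec,
        coordVec_oddVec, coordVec_oddVec]
      simp [hec, Ne.symm hec]
    have hm' : n • m = m := by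
      have hsh : IsShort m := by
        refine ⟨?_, by rw [hm, hm]; simp [ha.symm, hb.symm, Ne.symm hea, Ne.symm heb]⟩
        rw [sqNorm, sum_eq_two_points _ (Ne.symm hec) (fun q h h' => by
          rw [hm, if_neg h, if_neg h']; norm_num), hm, hm]
        simp [hec]
      refine smul_fixed_of_dot (hoddc c ha hb) (h _ hsh) ?_
      rw [dotInt, sum_eq_two_points _ (Ne.symm hec) (fun q h h' => by
        rw [hm, if_neg h, if_neg h']; ring), hm, hm, coordVec_oddVec, coordVec_oddVec]
      simp [hec]
    have he' : axisVec c = pairVec c e + m := by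
      apply Subtype.ext; funext i
      show coordVec (axisVec c) i = coordVec (pairVec c e) i + coordVec m i
      rw [coordVec_axisVec, coordVec_pairVec, hm]
      by_cases h1 : i = c
      · subst h1; simp [Ne.symm hec]
      · by_cases h2 : i = e <;> simp [h1, h2, hec]
    rw [he', smul_add_co0, hp, hm']
  have hdot : ∀ (v : leechLattice) (p q : GolayPt), n • axisVec p = axisVec q →
      coordVec (n • v) q = coordVec v p := by
    intro v p q e
    have h1 : dotInt (coordVec (n • v)) (coordVec (n • axisVec p)) = dotInt (coordVec v) (coordVec (axisVec p)) :=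
      CfsgLib.Leech.dotInt_smul n v (axisVec p)
    rw [e, dot_axisVec, dot_axisVec] at h1
    omega
  have hsa : axisVec pa = uStar + uu := by
    apply Subtype.ext; funext i
    show coordVec (axisVec pa) i = coordVec uStar i + coordVec uu i
    rw [coordVec_axisVec, coordVec_uStar, coordVec_uu]; split_ifs <;> norm_num
  have hsb : axisVec pb = uStar + -uu := by
    apply Subtype.ext; funext i
    show coordVec (axisVec pb) i = coordVec uStar i + -coordVec uu i
    rw [coordVec_axisVec, coordVec_uStar, coordVec_uu]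
    by_cases h1 : i = pa
    · subst h1; simp
    · by_cases h2 : i = pb <;> simp [h1, h2]
  rcases hu with hu | hu
  · refine co0_ext fun v p => ?_
    rw [one_smul]
    refine hdot v p p ?_
    by_cases h1 : p = pa
    · subst h1; rw [hsa, smul_add_co0, hs, hu]
    by_cases h2 : p = pb
    · subst h2; rw [hsb, smul_add_co0, smul_neg_co0, hs, hu]
    exact hax p h1 h2
  · exfalso
    obtain ⟨d, hd, hdv⟩ := exists_code_on (T := {pa, pb}) (by decide) (fun p => if p = pa then 1 else 0)
    have ea : d pa = 1 := by rw [hdv pa (by simp)]; simp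
    have eb : d pb = 0 := by rw [hdv pb (by simp)]; simp
    let v : leechLattice := ⟨mkVec 0 d 0, mkVec_mem hd (by simp)⟩
    have hva : coordVec v pa = 2 := by show mkVec 0 d 0 pa = 2; simp [mkVec, bitVec, ea]
    have hvb : coordVec v pb = 0 := by show mkVec 0 d 0 pb = 0; simp [mkVec, bitVec, eb]
    have h1 : coordVec (n • v) pb = 2 := by
      rw [hdot v pa pb (by rw [hsa, hsb, smul_add_co0, hs, hu]), hva]
    have h2 : coordVec (n • v) pa = 0 := by
      rw [hdot v pb pa (by rw [hsa, hsb, smul_add_co0, smul_neg_co0, hs, hu, neg_neg]), hvb]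
    let δ : leechLattice := n • v - v
    have hδ : ∀ q, q ≠ pa → q ≠ pb → coordVec δ q = 0 := fun q ha hb => by
      show coordVec (n • v) q - coordVec v q = 0
      rw [hdot v q q (hax q ha hb), sub_self]
    have hn8 : sqNorm (coordVec δ) = 8 := by
      rw [sqNorm, sum_eq_two_points _ (show pa ≠ pb by simp) (fun q ha hb => by rw [hδ q ha hb]; norm_num)]
      show (coordVec (n • v) pa - coordVec v pa) ^ 2 + (coordVec (n • v) pb - coordVec v pb) ^ 2 = 8
      rw [h1, h2, hva, hvb]; norm_num
    have hne : (coordVec δ : GolayPt → ℤ) ≠ 0 := fun e => by rw [e] at hn8; simp [sqNorm] at hn8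
    have : (32 : ℤ) ≤ sqNorm (coordVec δ) := le_sqNorm_of_ne_zero δ.2 hne
    omega

/-- The stabiliser of the pair `±u` has no normal 2-subgroup outside the centre. -/
theorem stab_short_no_normal {N : Subgroup Co0} (hN2 : IsPGroup 2 N) (hN : ∀ n ∈ N, InStab n)
    (hnorm : ∀ h : Co0, InStab h → ∀ n ∈ N, h * n * h⁻¹ ∈ N) {n : Co0} (hn : n ∈ N) :
    n = 1 ∨ n = negAut := by
  have hs : IsShort uStar := ⟨sqNorm_uStar, by rw [coordVec_uStar, coordVec_uStar]; simp⟩
  rcases smul_short hN hnorm hN2 hn hs with e | e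
  · exact Or.inl (eq_one_of_fix_short (hN n hn) e (fun v hv => smul_short hN hnorm hN2 hn hv))
  · right
    have h1 : negAut * n = 1 := eq_one_of_fix_short
      (inStab_negAut.mul (hN n hn)) (by rw [mul_smul, e, negAut_apply, neg_neg])
      (fun v hv => by
        rw [mul_smul]
        rcases smul_short hN hnorm hN2 hn hv with r | r <;> rw [r, negAut_apply]
        · exact Or.inr rfl
        · exact Or.inl (neg_neg v))
    have hnn : negAut * negAut = (1 : Co0) := co0_ext fun v p => by
      rw [mul_smul, coordVec_negAut, coordVec_negAut, neg_neg, one_smul]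
    calc n = negAut * negAut * n := by rw [hnn, one_mul]
      _ = negAut := by rw [mul_assoc, h1, mul_one]

end CfsgLib.Fischer2
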